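import Cfsg.Agent.Lib.SLFourMain.Core
import Cfsg.Agent.Lib.SLEight.Pauli
import Cfsg.Agent.Lib.SLTwoPrime.Proper

/-! The symplectic-type case in dimension four. -/

set_option autoImplicit false

namespace Cfsg.Agent.Lib.SLFourMain

open Cfsg.Geo Matrix Cfsg.Agent.Lib.SLTwoPrime
open Cfsg.Agent.Lib.SLEight (exists_rep_basis rep_smul le_classical realisable)
open scoped MatrixGroups Kronecker commutatorElement

variable {F : Type*} [Field F] [Fintype F]

lemma nonsquare_mul {a b : F} (h2 : (2 : F) ≠ 0) (ha : ¬ IsSquare a) (hb : ¬ IsSquare b) : IsSquare (a * b) := by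
  classical
  have hc : ringChar F ≠ 2 := fun hr => by
    have := ringChar.Nat.cast_ringChar (R := F)
    rw [hr] at this
    exact h2 (by exact_mod_cast this)
  have ha0 : a ≠ 0 := fun h => ha (h ▸ IsSquare.zero)
  have hb0 : b ≠ 0 := fun h => hb (h ▸ IsSquare.zero)
  rw [← quadraticChar_one_iff_isSquare (mul_ne_zero ha0 hb0), map_mul,
    quadraticChar_neg_one_iff_not_isSquare.2 ha, quadraticChar_neg_one_iff_not_isSquare.2 hb]
  norm_num

/-- what the symplectic-type case gives -/
def SixOutcome (H : Subgroup (GL (Fin 4) F)) : Prop :=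
  ((∃ p : ℕ, p.Prime ∧ Fintype.card F = p ∧ p % 4 = 1) ∧ ∃ R : Subgroup (GL (Fin 4) F),
    IsLinearSymplecticTypeData 2 R ∧ H ≤ subgroupNormalizer R ∧ ¬ specialLinear (Fin 4) F ≤ subgroupNormalizer R) ∨
  (Odd (Fintype.card F) ∧ ∃ Q : (Fin 4 → F) → F, IsNondegenerateQuadraticForm Q ∧ H ≤ quadSimilarityGroup Q) ∨
  (∃ f : (Fin 4 → F) → (Fin 4 → F) → F, IsSymplecticForm f ∧ H ≤ similarityGroup f) ∨
  (∃ (s : F ≃+* F) (f : (Fin 4 → F) → (Fin 4 → F) → F), IsUnitaryForm s f ∧ H ≤ similarityGroup f) ∨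
  (∃ (F₁ : Subfield F) (r : ℕ) (B : GL (Fin 4) F), r.Prime ∧ Fintype.card F = Nat.card F₁ ^ r ∧ F₁ ≠ ⊤ ∧
    H ≤ subfieldSubgroup F₁ B)

/-- the special linear group normalises no small non-scalar group -/
theorem not_le_normalizer {R : Subgroup (GL (Fin 4) F)} (hcard : Nat.card R < Fintype.card F ^ 3)
    (hnsc : ¬ R ≤ scalars (Fin 4) F) : ¬ specialLinear (Fin 4) F ≤ subgroupNormalizer R := by
  intro hle
  refine hnsc fun g hg => ?_
  obtain ⟨c, hc⟩ := scalar_of_eigen (g : Matrix (Fin 4) (Fin 4) F) fun u => by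
    rcases eq_or_ne u 0 with rfl | hu
    · exact ⟨0, by simp⟩
    let W : Submodule F (Fin 4 → F) := LinearMap.ker (dotProductBilin F F u)
    have hW : ∀ w : W, (w : Fin 4 → F) ⬝ᵥ u = 0 := fun w => by
      have : u ⬝ᵥ (w : Fin 4 → F) = 0 := w.2
      rw [dotProduct_comm]; exact this
    let T : W → GL (Fin 4) F := fun w => tv u w (hW w)
    let f : W → R := fun w => ⟨T w * g * (T w)⁻¹,
      ((Subgroup.mem_normalizer_iff.1 (hle (tv_mem u w (hW w)))) g).1 hg⟩
    have hnot : ¬ Function.Injective f := by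
      intro hinj
      have h1 := Nat.card_le_card_of_injective f hinj
      rw [Module.natCard_eq_pow_finrank (K := F), Nat.card_eq_fintype_card (α := F)] at h1
      have h3 : 3 ≤ Module.finrank F W := by
        have e := LinearMap.finrank_range_add_finrank_ker (dotProductBilin F F u)
        have e' := Submodule.finrank_le (LinearMap.range (dotProductBilin F F u))
        rw [Module.finrank_fintype_fun_eq_card, Fintype.card_fin] at e
        rw [Module.finrank_self] at e'
        show 3 ≤ Module.finrank F (LinearMap.ker (dotProductBilin F F u))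
        omega
      have := Nat.pow_le_pow_right (Fintype.card_pos (α := F)) h3
      omega
    obtain ⟨w, w', hww, hne⟩ := Function.not_injective_iff.1 hnot
    have hval : T w * g * (T w)⁻¹ = T w' * g * (T w')⁻¹ := congrArg Subtype.val hww
    have hS : (T w')⁻¹ * T w * g = g * ((T w')⁻¹ * T w) := by
      rw [mul_assoc, inv_mul_eq_iff_eq_mul, ← mul_assoc (T w') g, ← mul_assoc, ← mul_inv_eq_iff_eq_mul, hval]
    have hSv : ∀ v : Fin 4 → F, (((T w')⁻¹ * T w : GL (Fin 4) F) : Matrix (Fin 4) (Fin 4) F) *ᵥ v =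
        v + (((w : Fin 4 → F) - (w' : Fin 4 → F)) ⬝ᵥ v) • u := by
      intro v
      rw [Units.val_mul, ← mulVec_mulVec, tv_mulVec]
      show (1 - vecMulVec u (w' : Fin 4 → F)) *ᵥ _ = _
      rw [sub_mulVec, one_mulVec, vecMulVec_mulVec, op_smul_eq_smul, dotProduct_add, dotProduct_smul, hW w', smul_zero,
        add_zero, sub_dotProduct, sub_smul]
      abel
    obtain ⟨v, hv⟩ : ∃ v, ((w : Fin 4 → F) - (w' : Fin 4 → F)) ⬝ᵥ v ≠ 0 := by
      by_contra hcon
      push Not at hcon
      refine hne (Subtype.ext (sub_eq_zero.1 (funext fun i => ?_)))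
      have := hcon (Pi.single i 1)
      rwa [dotProduct_single_one] at this
    have h1 := congrArg (fun m : GL (Fin 4) F => (m : Matrix (Fin 4) (Fin 4) F) *ᵥ v) hS
    simp only [Units.val_mul] at h1
    rw [← mulVec_mulVec, ← mulVec_mulVec v (g : Matrix (Fin 4) (Fin 4) F)] at h1
    rw [← Units.val_mul, hSv, hSv, mulVec_add, add_right_inj, mulVec_smul] at h1
    refine ⟨(((w : Fin 4 → F) - (w' : Fin 4 → F)) ⬝ᵥ v)⁻¹ * (((w : Fin 4 → F) - (w' : Fin 4 → F)) ⬝ᵥ ((g : Matrix (Fin 4) (Fin 4) F) *ᵥ v)), ?_⟩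
    rw [mul_smul, h1, smul_smul, inv_mul_cancel₀ hv, one_smul]
  exact mem_scalars_of_val hc

theorem class_six {H : Subgroup (GL (Fin 4) F)} (hG : NoGeo 2 H) (h : ClassTwo H) : SixOutcome H := by
  classical
  obtain ⟨N, -, hNn, htop, hab, hmin⟩ := h
  obtain ⟨b, hb⟩ := exists_rep_basis htop hab
  set Sc := scalars (Fin 4) F
  have : Fintype (N ⧸ Sc.subgroupOf N) := Fintype.ofFinite _
  have hcardQ : Nat.card (N ⧸ Sc.subgroupOf N) = 16 := by
    have := (Module.finrank_eq_card_basis b).symm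
    rw [Module.finrank_matrix, Fintype.card_fin, Module.finrank_self] at this
    rw [Nat.card_eq_fintype_card]; omega
  -- squares are scalars
  let M2 : Subgroup (GL (Fin 4) F) :=
    { carrier := {x | x ∈ N ∧ x * x ∈ Sc}
      one_mem' := ⟨N.one_mem, by rw [mul_one]; exact Subgroup.one_mem _⟩
      mul_mem' := fun {x y} hx hy => ⟨N.mul_mem hx.1 hy.1, by
        have hc := hab y hy.1 x hx.1
        rw [show x * y * (x * y) = x * (y * x * y⁻¹ * x⁻¹) * x * (y * y) by group, ← commute_scalar hc,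
          mul_assoc _ x x]
        exact mul_mem (mul_mem hc hx.2) hy.2⟩
      inv_mem' := fun {x} hx => ⟨N.inv_mem hx.1, by rw [← _root_.mul_inv_rev]; exact inv_mem hx.2⟩ }
  haveI : Fact (Nat.Prime 2) := ⟨Nat.prime_two⟩
  have hsq : ∀ x ∈ N, x * x ∈ Sc := by
    obtain ⟨a, ha⟩ := exists_prime_orderOf_dvd_card' (G := N ⧸ Sc.subgroupOf N) 2 (by rw [hcardQ]; norm_num)
    obtain ⟨x₀, rfl⟩ := QuotientGroup.mk_surjective a
    have hM : M2 = N := hmin M2 (fun z hz => hz.1) (fun g hg z hz => ⟨hNn g hg z hz.1, by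
        rw [show g * z * g⁻¹ * (g * z * g⁻¹) = g * (z * z) * g⁻¹ by group]
        exact scalars_normal.conj_mem _ hz.2 g⟩) fun hle => by
      have h1 : (x₀ : GL (Fin 4) F) * x₀ ∈ Sc := by
        have h2 : (QuotientGroup.mk (x₀ * x₀) : N ⧸ Sc.subgroupOf N) = 1 := by
          rw [QuotientGroup.mk_mul, ← pow_two, ← ha, pow_orderOf_eq_one]
        exact Subgroup.mem_subgroupOf.1 ((QuotientGroup.eq_one_iff _).1 h2)
      have : (QuotientGroup.mk x₀ : N ⧸ Sc.subgroupOf N) = 1 :=
        (QuotientGroup.eq_one_iff _).2 (Subgroup.mem_subgroupOf.2 (hle ⟨x₀.2, h1⟩))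
      rw [this, orderOf_one] at ha; omega
    intro x hx
    exact ((hM.symm ▸ hx : x ∈ M2)).2
  -- commutation up to sign
  have hsign : ∀ x ∈ N, ∀ y ∈ N, (x : Matrix (Fin 4) (Fin 4) F) * y = (y : Matrix (Fin 4) (Fin 4) F) * x ∨
      (x : Matrix (Fin 4) (Fin 4) F) * y = -((y : Matrix (Fin 4) (Fin 4) F) * x) := by
    intro x hx y hy
    set z := x * y * x⁻¹ * y⁻¹ with hz
    obtain ⟨c, hc⟩ := (mem_scalars_iff z).1 (hab x hx y hy)
    have hxy : x * y = z * (y * x) := by rw [hz]; group
    have hz2 : z * z = 1 := by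
      have e1 : x * x * y = y * (x * x) := commute_scalar (hsq x hx) y
      have e2 : ∀ g, z * g = g * z := commute_scalar (hab x hx y hy)
      have : x * x * y = z * z * (y * (x * x)) := by
        calc x * x * y = x * (x * y) := mul_assoc _ _ _
          _ = x * (z * (y * x)) := by rw [hxy]
          _ = z * (x * y) * x := by
              rw [← mul_assoc x z, ← e2 x]; simp only [mul_assoc]
          _ = z * (z * (y * x)) * x := by rw [hxy]
          _ = _ := by group
      exact mul_eq_right.1 (this.symm.trans e1)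
    have hc2 : (c : F) * c = 1 := by
      have := congrArg Units.val hz2
      rw [Units.val_mul, hc, smul_mul_assoc, one_mul, smul_smul, Units.val_one] at this
      simpa using congrFun₂ this 0 0
    have := congrArg Units.val hxy
    rw [Units.val_mul, Units.val_mul, hc, smul_mul_assoc, one_mul, Units.val_mul] at this
    rcases mul_self_eq_one_iff.1 hc2 with h1 | h1 <;> rw [h1] at this
    · left; simpa using this
    · right; simpa using this
  have hNsc : ¬ N ≤ Sc := fun hle => by
    have hone : Subsingleton (N ⧸ Sc.subgroupOf N) :=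
      QuotientGroup.subsingleton_iff.2 (Subgroup.subgroupOf_eq_top.2 hle)
    rw [Nat.card_of_subsingleton (QuotientGroup.mk (1 : N))] at hcardQ
    omega
  have h2 : (2 : F) ≠ 0 := by
    intro h2
    refine hNsc fun x hx => ?_
    obtain ⟨c, hc⟩ := scalar_of_commute htop (M := (x : Matrix (Fin 4) (Fin 4) F)) fun y hy => by
      rcases hsign x hx y hy with h | h
      · exact h
      · rw [h, neg_eq_iff_add_eq_zero, ← two_smul F, h2, zero_smul]
    exact mem_scalars_of_val hc
  -- square classes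
  have hcls : ∀ x ∈ N, ∃ d : F, d ≠ 0 ∧ ((x : Matrix (Fin 4) (Fin 4) F) * x = (d * d) • 1 ∨
      (x : Matrix (Fin 4) (Fin 4) F) * x = -((d * d) • 1)) := by
    have hval : ∀ x ∈ N, ∃ c : F, c ≠ 0 ∧ (x : Matrix (Fin 4) (Fin 4) F) * x = c • 1 := by
      intro x hx
      obtain ⟨c, hc⟩ := (mem_scalars_iff _).1 (hsq x hx)
      exact ⟨c, c.ne_zero, hc⟩
    have huniq : ∀ c c' : F, c • (1 : Matrix (Fin 4) (Fin 4) F) = c' • 1 → c = c' := fun c c' h => by
      simpa using congrFun₂ h 0 0
    by_cases hm1 : IsSquare (-1 : F)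
    · let K : Subgroup (GL (Fin 4) F) :=
        { carrier := {x | x ∈ N ∧ ∀ c : F, (x : Matrix (Fin 4) (Fin 4) F) * x = c • 1 → IsSquare c}
          one_mem' := ⟨N.one_mem, fun c hc => by
            rw [Units.val_one, mul_one] at hc
            rw [← huniq 1 c (by rw [one_smul]; exact hc)]; exact IsSquare.one⟩
          mul_mem' := fun {x y} hx hy => ⟨N.mul_mem hx.1 hy.1, fun c hc => by
            obtain ⟨cx, -, hcx⟩ := hval x hx.1
            obtain ⟨cy, -, hcy⟩ := hval y hy.1
            have sx := hx.2 cx hcx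
            have sy := hy.2 cy hcy
            rw [Units.val_mul] at hc
            rcases hsign y hy.1 x hx.1 with h | h
            · have e : (x : Matrix (Fin 4) (Fin 4) F) * y * (x * y) = (cx * cy) • 1 := by
                rw [← mul_assoc, mul_assoc (x : Matrix (Fin 4) (Fin 4) F) y x, h, ← mul_assoc, hcx, mul_assoc, hcy,
                  smul_mul_assoc, one_mul, smul_smul]
              rw [huniq c _ (hc.symm.trans e)]; exact sx.mul sy
            · have e : (x : Matrix (Fin 4) (Fin 4) F) * y * (x * y) = (-1 * (cx * cy)) • 1 := by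
                rw [← mul_assoc, mul_assoc (x : Matrix (Fin 4) (Fin 4) F) y x, h, mul_neg, neg_mul, ← mul_assoc, hcx,
                  mul_assoc, hcy, smul_mul_assoc, one_mul, smul_smul, neg_one_mul, neg_smul]
              rw [huniq c _ (hc.symm.trans e)]; exact hm1.mul (sx.mul sy)⟩
          inv_mem' := fun {x} hx => ⟨N.inv_mem hx.1, fun c hc => by
            obtain ⟨cx, hcx0, hcx⟩ := hval x hx.1
            have : c • (1 : Matrix (Fin 4) (Fin 4) F) = cx⁻¹ • 1 := by
              rw [← hc]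
              have h1 := congrArg (fun m => ((x⁻¹ : GL (Fin 4) F) : Matrix (Fin 4) (Fin 4) F) * (((x⁻¹ : GL (Fin 4) F) : Matrix (Fin 4) (Fin 4) F) * m)) hcx
              simp only [Units.inv_mul_cancel_left, Units.inv_mul, mul_smul_comm, mul_one] at h1
              conv_rhs => rw [h1, smul_smul, inv_mul_cancel₀ hcx0, one_smul]
            rw [huniq c _ this]; exact (hx.2 cx hcx).inv⟩ }
      have hK : K = N := by
        refine hmin K (fun z hz => hz.1) (fun g hg z hz => ⟨hNn g hg z hz.1, fun c hc => ?_⟩) fun hle => ?_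
        · refine hz.2 c ?_
          have h1 := congrArg (fun m => ((g⁻¹ : GL (Fin 4) F) : Matrix (Fin 4) (Fin 4) F) * m * (g : Matrix (Fin 4) (Fin 4) F)) hc
          simpa [mul_assoc, Units.val_mul] using h1
        · -- all non-scalar elements would have non-square square
          haveI : Nontrivial (N ⧸ Sc.subgroupOf N) := Finite.one_lt_card_iff_nontrivial.1 (by omega)
          obtain ⟨x, hx⟩ : ∃ x : N ⧸ Sc.subgroupOf N, x ≠ 1 := exists_ne 1
          have h3 : ∀ y : N ⧸ Sc.subgroupOf N, y = 1 ∨ y = x⁻¹ := by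
            intro y
            by_contra hcon
            push Not at hcon
            obtain ⟨a, rfl⟩ := QuotientGroup.mk_surjective x
            obtain ⟨b', rfl⟩ := QuotientGroup.mk_surjective y
            have hnk : ∀ u : N, (QuotientGroup.mk u : N ⧸ Sc.subgroupOf N) ≠ 1 →
                ∃ c : F, ((u : GL (Fin 4) F) : Matrix (Fin 4) (Fin 4) F) * (u : GL (Fin 4) F) = c • 1 ∧ ¬ IsSquare c := by
              intro u hu
              obtain ⟨c, -, hc⟩ := hval u u.2
              refine ⟨c, hc, fun hs => hu ((QuotientGroup.eq_one_iff _).2 (Subgroup.mem_subgroupOf.2 (hle ⟨u.2, fun c' hc' => ?_⟩)))⟩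
              rw [huniq c' c (hc'.symm.trans hc)]; exact hs
            obtain ⟨ca, hca, nsa⟩ := hnk a hx
            obtain ⟨cb, hcb, nsb⟩ := hnk b' hcon.1
            have hab' : (QuotientGroup.mk (a * b') : N ⧸ Sc.subgroupOf N) ≠ 1 := by
              rw [QuotientGroup.mk_mul]; exact fun h => hcon.2 (eq_inv_of_mul_eq_one_right h)
            obtain ⟨c, hc, nsc⟩ := hnk _ hab'
            apply nsc
            simp only [Subgroup.coe_mul, Units.val_mul] at hc
            rcases hsign b' b'.2 a a.2 with h | h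
            · rw [huniq c (ca * cb) (hc.symm.trans (by
                rw [← mul_assoc, mul_assoc ((a : GL (Fin 4) F) : Matrix (Fin 4) (Fin 4) F) _ ((a : GL (Fin 4) F) : Matrix (Fin 4) (Fin 4) F), h,
                  ← mul_assoc, hca, mul_assoc, hcb, smul_mul_assoc, one_mul, smul_smul]))]
              exact nonsquare_mul h2 nsa nsb
            · rw [huniq c (-1 * (ca * cb)) (hc.symm.trans (by
                rw [← mul_assoc, mul_assoc ((a : GL (Fin 4) F) : Matrix (Fin 4) (Fin 4) F) _ ((a : GL (Fin 4) F) : Matrix (Fin 4) (Fin 4) F), h,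
                  mul_neg, neg_mul, ← mul_assoc, hca, mul_assoc, hcb, smul_mul_assoc, one_mul, smul_smul, neg_one_mul, neg_smul]))]
              exact hm1.mul (nonsquare_mul h2 nsa nsb)
          have : (Finset.univ : Finset (N ⧸ Sc.subgroupOf N)) ⊆ {1, x⁻¹} := fun y _ => by simpa using h3 y
          have := (Finset.card_le_card this).trans Finset.card_le_two
          rw [Finset.card_univ, ← Nat.card_eq_fintype_card, hcardQ] at this
          omega
      intro x hx
      obtain ⟨c, hc0, hc⟩ := hval x hx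
      obtain ⟨d, hd⟩ := ((hK.symm ▸ hx : x ∈ K)).2 c hc
      exact ⟨d, fun h0 => hc0 (by rw [hd, h0, mul_zero]), Or.inl (by rw [hc, hd])⟩
    · intro x hx
      obtain ⟨c, hc0, hc⟩ := hval x hx
      by_cases hs : IsSquare c
      · obtain ⟨d, hd⟩ := hs
        exact ⟨d, fun h0 => hc0 (by rw [hd, h0, mul_zero]), Or.inl (by rw [hc, hd])⟩
      · obtain ⟨d, hd⟩ := nonsquare_mul h2 hm1 hs
        rw [neg_one_mul] at hd
        exact ⟨d, fun h0 => hc0 (neg_eq_zero.1 (by rw [hd, h0, mul_zero])), Or.inr (by rw [hc, ← hd, neg_smul, neg_neg])⟩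
  -- the group of symplectic type
  let Pm : GL (Fin 4) F → Prop := fun g => (g : Matrix (Fin 4) (Fin 4) F) * g = 1 ∨ (g : Matrix (Fin 4) (Fin 4) F) * g = -1
  have hNSsign : ∀ g ∈ N ⊔ Sc, ∀ k ∈ N ⊔ Sc, (g : Matrix (Fin 4) (Fin 4) F) * k = (k : Matrix (Fin 4) (Fin 4) F) * g ∨
      (g : Matrix (Fin 4) (Fin 4) F) * k = -((k : Matrix (Fin 4) (Fin 4) F) * g) := by
    intro g hg k hk
    obtain ⟨x, hx, z, hz, rfl⟩ := Subgroup.mem_sup_of_normal_right.1 hg
    obtain ⟨y, hy, z', hz', rfl⟩ := Subgroup.mem_sup_of_normal_right.1 hk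
    obtain ⟨c, hc⟩ := (mem_scalars_iff z).1 hz
    obtain ⟨c', hc'⟩ := (mem_scalars_iff z').1 hz'
    simp only [Units.val_mul, hc, hc', mul_smul_comm, smul_mul_assoc, mul_one]
    rcases hsign x hx y hy with h | h
    · left; rw [h, smul_comm]
    · right; rw [h, smul_comm, smul_neg, smul_neg]
  let R : Subgroup (GL (Fin 4) F) :=
    { carrier := {g | g ∈ N ⊔ Sc ∧ Pm g}
      one_mem' := ⟨Subgroup.one_mem _, Or.inl (by simp)⟩
      mul_mem' := fun {g k} hg hk => ⟨mul_mem hg.1 hk.1, by
        obtain ⟨hg1, hg2⟩ := hg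
        obtain ⟨hk1, hk2⟩ := hk
        show (((g * k : GL (Fin 4) F)) : Matrix (Fin 4) (Fin 4) F) * _ = 1 ∨ _
        rcases hNSsign k hk1 g hg1 with h | h <;> rcases hg2 with hg2 | hg2 <;> rcases hk2 with hk2 | hk2 <;>
          simp [Pm, mul_assoc, ← mul_assoc (k : Matrix (Fin 4) (Fin 4) F) (g : Matrix (Fin 4) (Fin 4) F), h, hk2,
            ← mul_assoc (g : Matrix (Fin 4) (Fin 4) F) (g : Matrix (Fin 4) (Fin 4) F), hg2]⟩
      inv_mem' := fun {g} hg => ⟨inv_mem hg.1, by
        rcases hg.2 with h | h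
        · have e : ((g⁻¹ : GL (Fin 4) F) : Matrix (Fin 4) (Fin 4) F) = g := by
            have := congrArg (((g⁻¹ : GL (Fin 4) F) : Matrix (Fin 4) (Fin 4) F) * ·) h
            simpa using this.symm
          exact Or.inl (by rw [e]; exact h)
        · have e : ((g⁻¹ : GL (Fin 4) F) : Matrix (Fin 4) (Fin 4) F) = -(g : Matrix (Fin 4) (Fin 4) F) := by
            have := congrArg (((g⁻¹ : GL (Fin 4) F) : Matrix (Fin 4) (Fin 4) F) * ·) h
            simp only [Units.inv_mul_cancel_left, mul_neg, mul_one] at this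
            rw [this, neg_neg]
          exact Or.inr (by rw [e, neg_mul_neg]; exact h)⟩ }
  have hlift : ∀ x ∈ N, ∃ r ∈ R, ∃ d : F, (x : Matrix (Fin 4) (Fin 4) F) = d • (r : Matrix (Fin 4) (Fin 4) F) := by
    intro x hx
    obtain ⟨d, hd0, hd⟩ := hcls x hx
    let z : GL (Fin 4) F := Units.map (Matrix.scalar (Fin 4) : F →+* Matrix (Fin 4) (Fin 4) F).toMonoidHom (Units.mk0 d⁻¹ (inv_ne_zero hd0))
    have hz : (z : Matrix (Fin 4) (Fin 4) F) = d⁻¹ • 1 := by simp [z, Matrix.smul_one_eq_diagonal]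
    have hzs : z ∈ Sc := ⟨Units.mk0 d⁻¹ (inv_ne_zero hd0), rfl⟩
    refine ⟨x * z, ⟨mul_mem (Subgroup.mem_sup_left hx) (Subgroup.mem_sup_right hzs), ?_⟩, d, ?_⟩
    · show ((x * z : GL (Fin 4) F) : Matrix (Fin 4) (Fin 4) F) * _ = 1 ∨ _
      simp only [Units.val_mul, hz, mul_smul_comm, mul_one, smul_mul_assoc, smul_smul]
      rcases hd with hd | hd
      · left; rw [hd, smul_smul]; field_simp; simp
      · right; rw [hd, smul_neg, smul_smul]; field_simp; simp
    · rw [Units.val_mul, hz, mul_smul_comm, mul_one, smul_smul, mul_inv_cancel₀ hd0, one_smul]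
  have hRtop : adj R = ⊤ := by
    rw [eq_top_iff, ← htop]
    refine Algebra.adjoin_le ?_
    rintro _ ⟨x, hx, rfl⟩
    obtain ⟨r, hr, d, hd⟩ := hlift x hx
    show (x : Matrix (Fin 4) (Fin 4) F) ∈ adj R
    rw [hd]
    exact Subalgebra.smul_mem _ (mem_adj hr) d
  have hRab : ∀ g ∈ R, ∀ k ∈ R, g * k * g⁻¹ * k⁻¹ ∈ Sc := by
    intro g hg k hk
    rcases hNSsign g hg.1 k hk.1 with h | h
    · refine mem_scalars_of_val (c := 1) ?_
      rw [Units.val_mul, Units.val_mul, Units.val_mul, h, Units.mul_inv_cancel_right, Units.mul_inv, one_smul]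
    · refine mem_scalars_of_val (c := -1) ?_
      rw [Units.val_mul, Units.val_mul, Units.val_mul, h, neg_mul, neg_mul, Units.mul_inv_cancel_right, Units.mul_inv,
        neg_one_smul]
  have hRn : ∀ g ∈ H, ∀ x ∈ R, g * x * g⁻¹ ∈ R := by
    intro g hg x hx
    refine ⟨?_, ?_⟩
    · obtain ⟨a, ha, z, hz, rfl⟩ := Subgroup.mem_sup_of_normal_right.1 hx.1
      rw [show g * (a * z) * g⁻¹ = (g * a * g⁻¹) * (g * z * g⁻¹) by group]
      exact mul_mem (Subgroup.mem_sup_left (hNn g hg a ha)) (Subgroup.mem_sup_right (scalars_normal.conj_mem _ hz g))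
    · show ((g * x * g⁻¹ : GL (Fin 4) F) : Matrix (Fin 4) (Fin 4) F) * _ = 1 ∨ _
      rcases hx.2 with h | h
      · left; simp [mul_assoc, ← mul_assoc (x : Matrix (Fin 4) (Fin 4) F) (x : Matrix (Fin 4) (Fin 4) F), h]
      · right; simp [mul_assoc, ← mul_assoc (x : Matrix (Fin 4) (Fin 4) F) (x : Matrix (Fin 4) (Fin 4) F), h]
  have hRsc : ∀ z ∈ R, ∀ c : F, (z : Matrix (Fin 4) (Fin 4) F) = c • 1 → c * c = 1 ∨ c * c = -1 := by
    intro z hz c hc
    rcases hz.2 with h | h <;> rw [hc, smul_mul_assoc, one_mul, smul_smul] at h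
    · left; simpa using congrFun₂ h 0 0
    · right; simpa using congrFun₂ h 0 0
  have hodd : Odd (Fintype.card F) := by
    rw [Nat.odd_iff]
    refine (Nat.mod_two_eq_zero_or_one _).resolve_left fun hev => h2 ?_
    have hr : ringChar F = 2 := FiniteField.even_card_iff_char_two.2 hev
    have := ringChar.Nat.cast_ringChar (R := F)
    rw [hr] at this
    exact_mod_cast this
  have hclassical : ∀ σ : F ≃+* F, (∀ a, σ (σ a) = a) → (∀ c : F, (c * c = 1 ∨ c * c = -1) → c * σ c = 1) →
      SixOutcome H := by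
    intro σ hσ hs
    rcases le_classical (by norm_num) hRtop h2 hRab hRn σ hσ (fun z hz c hc => hs c (hRsc z hz c hc)) with h | h | h
    · exact Or.inr (Or.inl ⟨hodd, h⟩)
    · exact Or.inr (Or.inr (Or.inl h))
    · exact Or.inr (Or.inr (Or.inr (Or.inl h)))
  by_cases hm1 : IsSquare (-1 : F)
  swap
  · exact hclassical (RingEquiv.refl F) (fun a => rfl) fun c hc => by
      rcases hc with hc | hc
      · exact hc
      · exact absurd ⟨c, hc.symm⟩ hm1
  obtain ⟨i, hi⟩ := hm1
  obtain ⟨p, hp⟩ := CharP.exists F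
  obtain ⟨e, hpp, hq⟩ := FiniteField.card F p
  haveI := Fact.mk hpp
  haveI : ExpChar F p := ExpChar.prime hpp
  have hp2 : p ≠ 2 := by
    intro h; subst h
    exact h2 (by exact_mod_cast CharP.cast_eq_zero F 2)
  have hpodd : p % 2 = 1 := (hpp.eq_two_or_odd).resolve_left hp2
  have hroot : ∀ c : F, (c * c = 1 ∨ c * c = -1) → c = 1 ∨ c = -1 ∨ c = i ∨ c = -i := by
    intro c hc
    rcases hc with hc | hc
    · rcases mul_self_eq_one_iff.1 hc with h | h <;> simp [h]
    · rcases mul_self_eq_mul_self_iff.1 (hc.trans hi) with h | h <;> simp [h]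
  have hsub : ∀ φ : F →+* F, φ i = i → (∃ x, φ x ≠ x) → SixOutcome H := by
    intro φ hφi hne
    let F₁ : Subfield F := φ.eqLocusField (RingHom.id F)
    have hF₁ : F₁ ≠ ⊤ := fun h => by
      obtain ⟨x, hx⟩ := hne
      exact hx (h.symm ▸ Subfield.mem_top x : x ∈ F₁)
    have hreal := realisable (by norm_num) hRtop hRab F₁ fun z hz c hc => by
      show φ c = c
      rcases hroot c (hRsc z hz c hc) with h | h | h | h <;> simp [h, hφi]
    exact Or.inr (Or.inr (Or.inr (Or.inr (exists_subfield (by norm_num) hRtop hRn hF₁ hreal))))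
  have hfrob : ∀ k : ℕ, 1 ≤ k → p ^ k < Fintype.card F → ∃ x : F, iterateFrobenius F p k x ≠ x := by
    intro k hk1 hk
    by_contra hcon
    push Not at hcon
    have hpk : 1 < p ^ k := Nat.one_lt_pow (by omega) hpp.one_lt
    have h1 : ∀ x : Fˣ, x ^ (p ^ k - 1) = 1 := fun x => by
      have := hcon (x : F)
      rw [iterateFrobenius_def] at this
      apply Units.ext
      rw [Units.val_pow_eq_pow_val, Units.val_one]
      refine mul_left_cancel₀ x.ne_zero ?_
      rw [← pow_succ', show p ^ k - 1 + 1 = p ^ k by omega, this, mul_one]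
    have := Nat.le_of_dvd (by omega) ((FiniteField.forall_pow_eq_one_iff F _).1 h1)
    omega
  have hfi : ∀ k : ℕ, iterateFrobenius F p k i = i ∨ iterateFrobenius F p k i = -i := fun k => by
    have : iterateFrobenius F p k i * iterateFrobenius F p k i = i * i := by rw [← map_mul, ← hi, map_neg, map_one]
    exact mul_self_eq_mul_self_iff.1 this
  by_cases he2 : 2 < (e : ℕ)
  · refine hsub (iterateFrobenius F p 2) ?_ (hfrob 2 (by norm_num) (by rw [hq]; exact Nat.pow_lt_pow_right hpp.one_lt he2))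
    show iterateFrobenius F p 2 i = i
    rw [show (2 : ℕ) = 1 + 1 from rfl, iterateFrobenius_add_apply]
    rcases hfi 1 with h | h <;> rw [h]
    · exact h
    · rw [map_neg, h, neg_neg]
  have he : (e : ℕ) = 1 ∨ (e : ℕ) = 2 := by have := e.pos; omega
  rcases he with he | he
  swap
  · -- the field of order p^2
    by_cases hφi : iterateFrobenius F p 1 i = i
    · exact hsub _ hφi (hfrob 1 le_rfl (by rw [hq, he]; exact Nat.pow_lt_pow_right hpp.one_lt (by norm_num)))
    · have hneg : iterateFrobenius F p 1 i = -i := (hfi 1).resolve_left hφi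
      have hinv : ∀ a : F, iterateFrobenius F p 1 (iterateFrobenius F p 1 a) = a := fun a => by
        rw [← iterateFrobenius_add_apply, iterateFrobenius_def]
        have := FiniteField.pow_card a
        rwa [hq, he] at this
      refine hclassical { (iterateFrobenius F p 1) with invFun := iterateFrobenius F p 1, left_inv := hinv, right_inv := hinv } hinv fun c hc => ?_
      show c * iterateFrobenius F p 1 c = 1
      rcases hroot c hc with h | h | h | h <;> subst h
      · simp
      · simp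
      · rw [hneg, mul_neg, ← hi, neg_neg]
      · rw [map_neg, hneg, neg_neg, neg_mul, ← hi, neg_neg]
  -- the prime field
  have hqp : Fintype.card F = p := by rw [hq, he, pow_one]
  have hp4 : p % 4 = 1 := by
    have h3 := (FiniteField.isSquare_neg_one_iff (F := F)).1 ⟨i, hi⟩
    rw [hqp] at h3
    omega
  have hnR : H ≤ subgroupNormalizer R := fun g hg => mem_normalizer_of_conj (hRn g hg)
  obtain ⟨b', hb'⟩ := exists_rep_basis hRtop hRab
  have : Fintype (R ⧸ Sc.subgroupOf R) := Fintype.ofFinite _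
  have hcardR' : Nat.card (R ⧸ Sc.subgroupOf R) = 16 := by
    have := (Module.finrank_eq_card_basis b').symm
    rw [Module.finrank_matrix, Fintype.card_fin, Module.finrank_self] at this
    rw [Nat.card_eq_fintype_card]; omega
  have hi0 : i ≠ 0 := fun h => by simp [h] at hi
  have hne1 : (1 : F) ≠ -1 := fun h => h2 (by linear_combination h)
  have hi1 : i ≠ 1 := fun h => hne1 (by rw [h, one_mul] at hi; exact hi.symm)
  have hi2 : i ≠ -1 := fun h => hne1 (by rw [h] at hi; linear_combination -hi)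
  have hscal : ∀ c : F, (c * c = 1 ∨ c * c = -1) → ∃ z ∈ R, (z : Matrix (Fin 4) (Fin 4) F) = c • 1 := by
    intro c hc
    have hc0 : c ≠ 0 := by rintro rfl; simp at hc
    refine ⟨Units.map (Matrix.scalar (Fin 4) : F →+* Matrix (Fin 4) (Fin 4) F).toMonoidHom (Units.mk0 c hc0),
      ⟨Subgroup.mem_sup_right ⟨Units.mk0 c hc0, rfl⟩, ?_⟩, by simp [Matrix.smul_one_eq_diagonal]⟩
    show _ = 1 ∨ _
    rcases hc with hc | hc
    · left; simp [← Matrix.diagonal_one, hc]
    · right; simp [← Matrix.diagonal_one, hc]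
  have hcardZ : Nat.card (Sc.subgroupOf R) = 4 := by
    let f : Sc.subgroupOf R → {c : F // c * c = 1 ∨ c * c = -1} := fun z =>
      ⟨((mem_scalars_iff _).1 (Subgroup.mem_subgroupOf.1 z.2)).choose,
        hRsc _ (z : R).2 _ ((mem_scalars_iff _).1 (Subgroup.mem_subgroupOf.1 z.2)).choose_spec⟩
    have hf : Function.Bijective f := by
      refine ⟨fun z z' h => ?_, fun c => ?_⟩
      · apply Subtype.ext; apply Subtype.ext; apply Units.ext
        have hval := congrArg Subtype.val h
        simp only [f] at hval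
        refine ((mem_scalars_iff _).1 (Subgroup.mem_subgroupOf.1 z.2)).choose_spec.trans ?_
        rw [hval]
        exact ((mem_scalars_iff _).1 (Subgroup.mem_subgroupOf.1 z'.2)).choose_spec.symm
      · obtain ⟨z, hz, hzc⟩ := hscal c c.2
        refine ⟨⟨⟨z, hz⟩, Subgroup.mem_subgroupOf.2 (mem_scalars_of_val hzc)⟩, Subtype.ext ?_⟩
        have := ((mem_scalars_iff z).1 (mem_scalars_of_val hzc)).choose_spec
        simpa using congrFun₂ (this.symm.trans hzc) 0 0
    rw [Nat.card_congr (Equiv.ofBijective f hf), Nat.card_eq_fintype_card, Fintype.card_subtype]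
    rw [show (Finset.univ.filter fun c : F => c * c = 1 ∨ c * c = -1) = {1, -1, i, -i} by
      ext c
      simp only [Finset.mem_filter, Finset.mem_univ, true_and, Finset.mem_insert, Finset.mem_singleton]
      refine ⟨hroot c, ?_⟩
      rintro (h | h | h | h) <;> subst h <;> simp [← hi]]
    rw [Finset.card_insert_of_notMem, Finset.card_insert_of_notMem, Finset.card_pair]
    · intro h; exact mul_ne_zero h2 hi0 (by linear_combination h)
    · simp only [Finset.mem_insert, Finset.mem_singleton]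
      rintro (h | h)
      · exact hi2 h.symm
      · exact hi1 (neg_injective h).symm
    · simp only [Finset.mem_insert, Finset.mem_singleton]
      rintro (h | h | h)
      · exact hne1 h
      · exact hi1 h.symm
      · exact hi2 (by rw [h, neg_neg])
  have hcardR : Nat.card R = 2 ^ (2 + 2 * 2) := by
    rw [Subgroup.card_eq_card_quotient_mul_card_subgroup (Sc.subgroupOf R), hcardR', hcardZ]; norm_num
  have hcentre : Subgroup.center R = Sc.subgroupOf R := by
    ext z
    rw [Subgroup.mem_center_iff, Subgroup.mem_subgroupOf]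
    refine ⟨fun h => ?_, fun h y => Subtype.ext (commute_scalar h y).symm⟩
    obtain ⟨c, hc⟩ := scalar_of_commute hRtop (M := ((z : GL (Fin 4) F) : Matrix (Fin 4) (Fin 4) F)) fun y hy =>
      (congrArg (fun m : R => ((m : GL (Fin 4) F) : Matrix (Fin 4) (Fin 4) F)) (h ⟨y, hy⟩)).symm
    exact mem_scalars_of_val hc
  have hpow : ∀ g : R, g ^ 4 = 1 := by
    intro g
    apply Subtype.ext; apply Units.ext
    show (((g : GL (Fin 4) F) ^ 4 : GL (Fin 4) F) : Matrix (Fin 4) (Fin 4) F) = 1
    rw [Units.val_pow_eq_pow_val, show ∀ M : Matrix (Fin 4) (Fin 4) F, M ^ 4 = M * M * (M * M) from fun M => by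
      rw [← pow_two, ← pow_two, ← pow_mul]]
    rcases g.2.2 with h | h <;> rw [h] <;> simp
  refine Or.inl ⟨⟨p, hpp, hqp, hp4⟩, R, ⟨⟨Nat.prime_two, ?_, fun A hA hAc => ?_, ?_⟩, absIrred_of_top hRtop, ⟨p, 1, ?_, ?_, ?_⟩⟩,
    hnR, not_le_normalizer ?_ ?_⟩
  · exact IsPGroup.of_card hcardR
  · -- characteristic abelian subgroups are scalar
    set A' := A.map R.subtype with hA'
    have hinv : ∀ g ∈ H, ∀ x ∈ A', g * x * g⁻¹ ∈ A' := by
      rintro g hg _ ⟨a, ha, rfl⟩
      let α : R ≃* R :=
        { toFun := fun r => ⟨g * r * g⁻¹, hRn g hg r r.2⟩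
          invFun := fun r => ⟨g⁻¹ * r * g, by simpa using hRn g⁻¹ (inv_mem hg) r r.2⟩
          left_inv := fun r => Subtype.ext (by simp [mul_assoc])
          right_inv := fun r => Subtype.ext (by simp [mul_assoc])
          map_mul' := fun r s => Subtype.ext (by simp [mul_assoc]) }
      exact ⟨α a, (Subgroup.characteristic_iff_map_eq.1 hA α).le ⟨a, ha, rfl⟩, rfl⟩
    have hcm : ∀ x ∈ adj A', ∀ y ∈ adj A', x * y = y * x := by
      intro x hx y hy
      refine (commute_adj (N := A') (fun z hz => ?_) x hx).symm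
      refine (commute_adj (N := A') (fun w hw => ?_) y hy).symm
      obtain ⟨a, ha, rfl⟩ := hz
      obtain ⟨c, hc, rfl⟩ := hw
      exact congrArg (fun m : R => ((m : GL (Fin 4) F) : Matrix (Fin 4) (Fin 4) F))
        (congrArg Subtype.val (hAc.is_comm.comm ⟨a, ha⟩ ⟨c, hc⟩))
    have hsc : ∀ a ∈ A, (a : GL (Fin 4) F) ∈ Sc := fun a ha => by
      obtain ⟨c, hc⟩ := hG.comm _ (inv_adj hinv) hcm _ (mem_adj (N := A') ⟨a, ha, rfl⟩)
      exact mem_scalars_of_val hc
    have hle : A ≤ Sc.subgroupOf R := fun a ha => Subgroup.mem_subgroupOf.2 (hsc a ha)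
    let ev : A →* F :=
      { toFun := fun a => ((a : R) : GL (Fin 4) F).val 0 0
        map_one' := by simp
        map_mul' := fun a b => by
          obtain ⟨c, hc⟩ := (mem_scalars_iff _).1 (hsc a a.2)
          obtain ⟨d, hd⟩ := (mem_scalars_iff _).1 (hsc b b.2)
          simp [hc, hd, mul_comm] }
    refine isCyclic_of_subgroup_isDomain ev fun a b hab => ?_
    obtain ⟨c, hc⟩ := (mem_scalars_iff _).1 (hsc a a.2)
    obtain ⟨d, hd⟩ := (mem_scalars_iff _).1 (hsc b b.2)
    have hcd : (c : F) = d := by simpa [ev, hc, hd] using hab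
    exact Subtype.ext (Subtype.ext (Units.ext (by rw [hc, hd, hcd])))
  · -- exponent four
    show Monoid.exponent R = 4
    obtain ⟨z, hz, hzc⟩ := hscal i (Or.inr hi.symm)
    refine Nat.dvd_antisymm (Monoid.exponent_dvd_of_forall_pow_eq_one hpow) ?_
    have hord : orderOf (⟨z, hz⟩ : R) = 4 := by
      refine orderOf_eq_prime_pow (p := 2) (n := 1) ?_ (hpow _)
      intro h
      have := congrArg (fun m : R => ((m : GL (Fin 4) F) : Matrix (Fin 4) (Fin 4) F) 0 0) h
      simp [pow_two, hzc, ← hi] at this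
      exact hne1 this.symm
    exact hord.symm.dvd.trans (Monoid.order_dvd_exponent _)
  · exact hp2.symm
  · rw [hcentre, hcardZ]
    refine ⟨hpp, hp, by rw [hqp, pow_one], by rw [pow_one]; omega, fun d hd hd' => absurd hd' (by omega)⟩
  · exact Or.inr (Or.inl ⟨rfl, rfl, by rw [hcentre, hcardZ], by simp, 2, hcardR⟩)
  · rw [hcardR, hqp]
    have h5 : 5 ≤ p := by have := hpp.two_le; omega
    exact lt_of_lt_of_le (by norm_num) (Nat.pow_le_pow_left h5 3)
  · intro hle
    have hone : Subsingleton (R ⧸ Sc.subgroupOf R) :=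
      QuotientGroup.subsingleton_iff.2 (Subgroup.subgroupOf_eq_top.2 hle)
    rw [Nat.card_of_subsingleton (QuotientGroup.mk (1 : R))] at hcardR'
    omega

end Cfsg.Agent.Lib.SLFourMain
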