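import Cfsg.Agent.Lib.SLEight.TensorForm

/-! Normal subgroups of an irreducible group in dimension four. -/

set_option autoImplicit false

namespace Cfsg.Agent.Lib.SLFourMain

open Cfsg.Geo Matrix Cfsg.Agent.Lib.SLTwoPrime
open Cfsg.Agent.Lib.SLEight (J₂ J₂_fixed J₂_isUnit kron_form det_one_of_perfect)
open scoped MatrixGroups Kronecker commutatorElement

variable {F : Type*} [Field F] [Finite F]

lemma mem_normalizer_of_conj {G : Type*} [Group G] [Finite G] {S : Subgroup G} {g : G}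
    (h : ∀ y ∈ S, g * y * g⁻¹ ∈ S) : g ∈ Subgroup.normalizer (S : Set G) := by
  have hle : S.map (MulAut.conj g).toMonoidHom ≤ S := by rintro _ ⟨y, hy, rfl⟩; exact h y hy
  have heq := Subgroup.eq_of_le_of_card_ge hle (Subgroup.card_map_of_injective (MulAut.conj g).injective).ge
  refine Subgroup.mem_normalizer_iff.2 fun y => ⟨fun hy => h y hy, fun hy => ?_⟩
  rw [← heq] at hy
  obtain ⟨z, hz, hzy⟩ := Subgroup.mem_map.1 hy
  exact (MulAut.conj g).injective hzy ▸ hz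

/-- no bilinear form is fixed by a spanning normal subgroup -/
def NoForm (H : Subgroup (GL (Fin 4) F)) : Prop :=
  ∀ P : Subgroup (GL (Fin 4) F), (∀ g ∈ H, ∀ x ∈ P, g * x * g⁻¹ ∈ P) → adj P = ⊤ →
    ∀ G : Matrix (Fin 4) (Fin 4) F, IsUnit G →
      (∀ x ∈ P, (x : Matrix (Fin 4) (Fin 4) F)ᵀ * (G * (x : Matrix (Fin 4) (Fin 4) F)) = G) → False

/-- a minimal normal subgroup which is abelian modulo scalars -/
def ClassTwo (H : Subgroup (GL (Fin 4) F)) : Prop :=
  ∃ N : Subgroup (GL (Fin 4) F), N ≤ H ∧ (∀ g ∈ H, ∀ x ∈ N, g * x * g⁻¹ ∈ N) ∧ adj N = ⊤ ∧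
    (∀ x ∈ N, ∀ y ∈ N, x * y * x⁻¹ * y⁻¹ ∈ scalars (Fin 4) F) ∧
    ∀ M : Subgroup (GL (Fin 4) F), M ≤ N → (∀ g ∈ H, ∀ x ∈ M, g * x * g⁻¹ ∈ M) → ¬ M ≤ scalars (Fin 4) F → M = N

theorem scalar_or_top_four {H : Subgroup (GL (Fin 4) F)} (hG : NoGeo 2 H) {N : Subgroup (GL (Fin 4) F)}
    (hN : ∀ g ∈ H, ∀ x ∈ N, g * x * g⁻¹ ∈ N) : N ≤ scalars (Fin 4) F ∨ adj N = ⊤ := by
  classical
  have hA := inv_adj hN
  obtain ⟨d, φ, hd, hrange, hφ⟩ := SLTwoPrime.matrix_form hG.irred hA fun z hz hzc =>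
    hG.comm _ (inv_centre hA) (fun x hx y hy => ((mem_centreAlg.1 hx).2 y (mem_centreAlg.1 hy).1).symm) z
      (mem_centreAlg.2 ⟨hz, fun a ha => (hzc a ha).symm⟩)
  obtain ⟨w, e, P, hdw, hP⟩ := units_form hd φ
  rw [Fintype.card_fin] at hdw
  have hw : 0 < w := Nat.pos_of_ne_zero fun h => by subst h; omega
  have hH : H ≤ tensorProductSubgroup d w e P := fun h hh =>
    normalizer_form hd hφ hP hw h fun a ha => hrange ▸ hA h hh a (hrange ▸ ha)
  have hd4 : d ≤ 4 := Nat.le_of_dvd (by norm_num) ⟨w, hdw.symm⟩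
  interval_cases d
  · left
    intro x hx
    have hx' : (x : Matrix (Fin 4) (Fin 4) F) ∈ φ.range := hrange ▸ mem_adj hx
    obtain ⟨a, ha⟩ := hx'
    have : a = a 0 0 • 1 := by ext i j; fin_cases i; fin_cases j; simp
    refine mem_scalars_of_val (c := a 0 0) ?_
    rw [← ha]; change φ a = _
    conv_lhs => rw [this]
    rw [map_smul, map_one]
  · obtain rfl : w = 2 := by omega
    exact absurd hH (hG.tensor e P)
  · omega
  · right
    rw [← hrange, eq_top_iff]
    have : Module.finrank F φ.range = Module.finrank F (Matrix (Fin 4) (Fin 4) F) := by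
      rw [← (AlgEquiv.ofInjective φ hφ).toLinearEquiv.finrank_eq]
    rw [← Subalgebra.finrank_toSubmodule] at this
    exact (Algebra.toSubmodule_eq_top.1 (Submodule.eq_top_of_finrank_eq this)).ge


/-- two commuting factors of dimension two fix a bilinear form -/
theorem two_factors {S T : Subgroup (GL (Fin 4) F)} (hS : ⁅S, S⁆ = S) (hT : ⁅T, T⁆ = T)
    {φ : Matrix (Fin 2) (Fin 2) F →ₐ[F] Matrix (Fin 4) (Fin 4) F} (hφ : Function.Injective φ)
    {ψ : Matrix (Fin 2) (Fin 2) F →ₐ[F] Matrix (Fin 4) (Fin 4) F} (hψ : Function.Injective ψ)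
    (hSr : ∀ x ∈ S, (x : Matrix (Fin 4) (Fin 4) F) ∈ φ.range)
    (hTr : ∀ x ∈ T, (x : Matrix (Fin 4) (Fin 4) F) ∈ ψ.range)
    (hψc : ∀ a b, ψ a * φ b = φ b * ψ a)
    {𝒦 : Set (Subgroup (GL (Fin 4) F))}
    (hK : ∀ U ∈ 𝒦, ⁅U, U⁆ = U ∧ ((U = S) ∨ (U = T) ∨
      ((∀ x ∈ U, ∀ b, (x : Matrix (Fin 4) (Fin 4) F) * φ b = φ b * x) ∧ ∀ x ∈ U, ∀ b, (x : Matrix (Fin 4) (Fin 4) F) * ψ b = ψ b * x))) :
    ∃ G : Matrix (Fin 4) (Fin 4) F, IsUnit G ∧ ∀ U ∈ 𝒦, ∀ x ∈ U,
      (x : Matrix (Fin 4) (Fin 4) F)ᵀ * (G * (x : Matrix (Fin 4) (Fin 4) F)) = G := by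
  classical
  obtain ⟨w, e, Q, hw, hQ⟩ := units_form (by norm_num) φ
  rw [Fintype.card_fin] at hw
  obtain rfl : w = 2 := by omega
  let R : Matrix (Fin 2 × Fin 2) (Fin 2 × Fin 2) F ≃ₐ[F] Matrix (Fin 4) (Fin 4) F :=
    (Matrix.reindexAlgEquiv F F e.symm).trans (cjA Q)
  have hφR : ∀ a, φ a = R (a ⊗ₖ 1) := fun a => by rw [hQ]; rfl
  let K : Matrix (Fin 2) (Fin 2) F →ₐ[F] Matrix (Fin 4) (Fin 4) F := R.toAlgHom.comp (kronHom 2 2)
  have hKval : ∀ B, K B = R ((1 : Matrix (Fin 2) (Fin 2) F) ⊗ₖ B) := fun B => rfl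
  have hKinj : Function.Injective K := R.injective.comp (kronHom_injective (by norm_num) 2)
  have hcomm : ∀ X : Matrix (Fin 4) (Fin 4) F, (∀ b, X * φ b = φ b * X) → X ∈ K.range := by
    intro X hX
    obtain ⟨B, hB⟩ := kron_commutant (show 0 < 2 by norm_num) (R.symm X) fun i j => by
      apply R.injective
      rw [map_mul, map_mul, AlgEquiv.apply_symm_apply, ← hφR]
      exact hX _
    refine ⟨B, ?_⟩
    show K B = X
    rw [hKval, ← hB, AlgEquiv.apply_symm_apply]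
  let eK := AlgEquiv.ofInjective K hKinj
  let χ : Matrix (Fin 2) (Fin 2) F →ₐ[F] Matrix (Fin 2) (Fin 2) F :=
    eK.symm.toAlgHom.comp (ψ.codRestrict K.range fun a => hcomm _ (hψc a))
  have hχ : ∀ a, K (χ a) = ψ a := fun a => congrArg Subtype.val (eK.apply_symm_apply _)
  have hχsurj : Function.Surjective χ :=
    (LinearMap.injective_iff_surjective (f := χ.toLinearMap)).1 fun a b hab =>
      hψ (by rw [← hχ a, ← hχ b]; exact congrArg K hab)
  obtain ⟨G, hG, hfix⟩ := kron_form e Q (J₂_isUnit (F := F)) (J₂_isUnit (F := F))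
  have hdet : ∀ (V : Subgroup (GL (Fin 4) F)), ⁅V, V⁆ = V → ∀ (θ : Matrix (Fin 2) (Fin 2) F →ₐ[F] Matrix (Fin 4) (Fin 4) F),
      Function.Injective θ → (∀ x ∈ V, (x : Matrix (Fin 4) (Fin 4) F) ∈ θ.range) →
      ∀ x ∈ V, ∃ a, (x : Matrix (Fin 4) (Fin 4) F) = θ a ∧ aᵀ * (J₂ * a) = J₂ := by
    intro V hV θ hθ hr x hx
    let eθ := AlgEquiv.ofInjective θ hθ
    let f : V →* Matrix (Fin 2) (Fin 2) F :=
      { toFun := fun y => eθ.symm ⟨_, hr y y.2⟩
        map_one' := by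
          rw [show (⟨_, hr (1 : V) (1 : V).2⟩ : θ.range) = 1 from Subtype.ext rfl, map_one]
        map_mul' := fun y z => by
          rw [← map_mul]; rfl }
    refine ⟨f ⟨x, hx⟩, (congrArg Subtype.val (eθ.apply_symm_apply ⟨_, hr x hx⟩)).symm, J₂_fixed (det_one_of_perfect hV f _)⟩
  have hone : ((1 : Matrix (Fin 2) (Fin 2) F))ᵀ * (J₂ * 1) = J₂ := by simp
  refine ⟨G, hG, fun U hU x hx => ?_⟩
  obtain ⟨hUp, hU' | hU' | hU'⟩ := hK U hU
  · subst hU'
    obtain ⟨a, hxa, ha⟩ := hdet _ hS φ hφ hSr x hx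
    rw [hxa, hQ]
    exact hfix a 1 ha hone
  · subst hU'
    obtain ⟨a, hxa, ha⟩ := hdet _ hT K hKinj (fun y hy => by
      obtain ⟨c, hc⟩ := hTr y hy
      exact ⟨χ c, (hχ c).trans hc⟩) x hx
    rw [hxa, hKval]
    exact hfix 1 a hone ha
  · have hsc : U ≤ scalars (Fin 4) F := by
      intro y hy
      obtain ⟨B, hB⟩ := hcomm _ (hU'.1 y hy)
      have hB' : K B = (y : Matrix (Fin 4) (Fin 4) F) := hB
      obtain ⟨c, hc⟩ := Matrix.mem_range_scalar_of_commute_single (M := B) fun i j _ => by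
        obtain ⟨a, ha⟩ := hχsurj (Matrix.single i j 1)
        show Matrix.single i j 1 * B = B * Matrix.single i j 1
        rw [← ha]
        apply hKinj
        rw [map_mul, map_mul, hχ, hB']
        exact (hU'.2 y hy a).symm
      refine mem_scalars_of_val (c := c) ?_
      rw [← hB', ← hc]
      show K (Matrix.scalar (Fin 2) c) = c • 1
      rw [show Matrix.scalar (Fin 2) c = c • (1 : Matrix (Fin 2) (Fin 2) F) by simp [Matrix.smul_one_eq_diagonal],
        map_smul, map_one]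
    have hbot : U ≤ ⊥ := hUp.ge.trans (Subgroup.commutator_le.2 fun a ha b hb => by
      rw [Subgroup.mem_bot, commutatorElement_eq_one_iff_mul_comm]
      exact commute_scalar (hsc ha) b)
    obtain rfl : x = 1 := hbot hx
    simp


set_option maxHeartbeats 1000000 in
/-- the socle of a group in no geometric class -/
theorem exists_core {H : Subgroup (GL (Fin 4) F)} (hG : NoGeo 2 H) (hF : NoForm H)
    (hH : ¬ H ≤ scalars (Fin 4) F) :
    ClassTwo H ∨ ∃ P : Subgroup (GL (Fin 4) F), P ≤ H ∧ (∀ h ∈ H, ∀ x ∈ P, h * x * h⁻¹ ∈ P) ∧ ⁅P, P⁆ = P ∧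
      IsSimpleGroup (P ⧸ (scalars (Fin 4) F).subgroupOf P) ∧ ¬ IsMulCommutative (P ⧸ (scalars (Fin 4) F).subgroupOf P) ∧
      adj P = ⊤ ∧ (∀ h ∈ H, (∀ x ∈ P, h * x * h⁻¹ * x⁻¹ ∈ scalars (Fin 4) F) → h ∈ scalars (Fin 4) F) := by
  classical
  set Sc := scalars (Fin 4) F
  obtain ⟨P, hPmem, hPmin⟩ := Set.exists_min_image
    {N : Subgroup (GL (Fin 4) F) | N ≤ H ∧ (∀ g ∈ H, ∀ x ∈ N, g * x * g⁻¹ ∈ N) ∧ ¬ N ≤ Sc} (fun N => Nat.card N)
    (Set.toFinite _) ⟨H, le_rfl, fun g hg x hx => mul_mem (mul_mem hg hx) (inv_mem hg), hH⟩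
  obtain ⟨hPH, hPn, hPsc⟩ := hPmem
  have hmin : ∀ M : Subgroup (GL (Fin 4) F), M ≤ P → (∀ g ∈ H, ∀ x ∈ M, g * x * g⁻¹ ∈ M) → ¬ M ≤ Sc → M = P :=
    fun M hM hMn hMs => Subgroup.eq_of_le_of_card_ge hM (hPmin M ⟨hM.trans hPH, hMn, hMs⟩)
  have htop : adj P = ⊤ := (scalar_or_top_four hG hPn).resolve_left hPsc
  by_cases hab : ∀ x ∈ P, ∀ y ∈ P, x * y * x⁻¹ * y⁻¹ ∈ Sc
  · exact Or.inl ⟨P, hPH, hPn, htop, hab, hmin⟩
  right
  have hnab : ¬ ∀ x ∈ P, ∀ y ∈ P, x * y * x⁻¹ * y⁻¹ ∈ Sc := hab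
  have conj_comm : ∀ (R : Subgroup (GL (Fin 4) F)), (∀ g ∈ H, ∀ x ∈ R, g * x * g⁻¹ ∈ R) →
      ∀ g ∈ H, ∀ x ∈ ⁅R, R⁆, g * x * g⁻¹ ∈ ⁅R, R⁆ := by
    intro R hR g hg
    have : (⁅R, R⁆).map (MulAut.conj g).toMonoidHom ≤ ⁅R, R⁆ := by
      rw [Subgroup.map_commutator]
      refine Subgroup.commutator_mono ?_ ?_ <;> rintro _ ⟨x, hx, rfl⟩ <;> exact hR g hg x hx
    exact fun x hx => this ⟨x, hx, rfl⟩
  have hperf : ⁅P, P⁆ = P := hmin _ (Subgroup.commutator_le.2 fun a ha b hb =>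
    mul_mem (mul_mem (mul_mem ha hb) (inv_mem ha)) (inv_mem hb)) (conj_comm P hPn)
    fun hle => hnab fun x hx y hy => hle (Subgroup.commutator_mem_commutator hx hy)
  have hcomm : ∀ g : GL (Fin 4) F, (∀ x ∈ P, g * x * g⁻¹ * x⁻¹ ∈ Sc) → g ∈ Sc := by
    intro g hg
    obtain ⟨c, hc⟩ := scalar_of_commute htop (M := (g : Matrix (Fin 4) (Fin 4) F)) fun x hx =>
      congrArg Units.val (commute_of_perfect hg (hperf.symm ▸ hx))
    exact mem_scalars_of_val hc
  -- minimal normal subgroups of the socle above the scalars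
  obtain ⟨R, hRmem, hRmin⟩ := Set.exists_min_image
    {N : Subgroup (GL (Fin 4) F) | N ≤ P ∧ P ⊓ Sc ≤ N ∧ (∀ g ∈ P, ∀ x ∈ N, g * x * g⁻¹ ∈ N) ∧ ¬ N ≤ Sc} (fun N => Nat.card N)
    (Set.toFinite _) ⟨P, le_rfl, inf_le_left, fun g hg x hx => mul_mem (mul_mem hg hx) (inv_mem hg), hPsc⟩
  obtain ⟨hRP, hZR, hRn, hRsc⟩ := hRmem
  have hcjmem : ∀ (h : GL (Fin 4) F) (x : GL (Fin 4) F), x ∈ R.map (MulAut.conj h).toMonoidHom ↔ h⁻¹ * x * h ∈ R := by
    intro h x
    constructor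
    · rintro ⟨y, hy, rfl⟩
      have : h⁻¹ * (MulAut.conj h y) * h = y := by simp [mul_assoc]
      exact this.symm ▸ hy
    · intro hx; exact ⟨_, hx, by simp [mul_assoc]⟩
  have hother : ∀ h ∈ H, R.map (MulAut.conj h).toMonoidHom ≠ R → ∀ a ∈ R.map (MulAut.conj h).toMonoidHom, ∀ b ∈ R,
      a * b * a⁻¹ * b⁻¹ ∈ Sc := by
    intro h hh hne a ha b hb
    set R' := R.map (MulAut.conj h).toMonoidHom with hR'
    have hR'P : R' ≤ P := by rintro _ ⟨y, hy, rfl⟩; exact hPn h hh y (hRP hy)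
    have hR'n : ∀ g ∈ P, ∀ x ∈ R', g * x * g⁻¹ ∈ R' := by
      intro g hg x hx
      rw [hR', hcjmem] at hx ⊢
      have := hRn _ (by simpa using hPn h⁻¹ (inv_mem hh) g hg) _ hx
      simpa [mul_assoc] using this
    have hint : R' ⊓ R ≤ Sc := by
      by_contra hnot
      have h1 : R' ⊓ R = R := Subgroup.eq_of_le_of_card_ge inf_le_right (hRmin _ ⟨inf_le_right.trans hRP,
        le_inf (fun x hx => by
          rw [hR', hcjmem]
          refine hZR ⟨by simpa using hPn h⁻¹ (inv_mem hh) x hx.1, ?_⟩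
          simpa using scalars_normal.conj_mem x hx.2 h⁻¹) hZR,
        fun g hg x hx => ⟨hR'n g hg x hx.1, hRn g hg x hx.2⟩, hnot⟩)
      refine hne (Subgroup.eq_of_le_of_card_ge (inf_eq_right.1 h1) ?_).symm
      exact (Subgroup.card_map_of_injective (MulAut.conj h).injective).le
    refine hint (Subgroup.mem_inf.2 ⟨?_, ?_⟩)
    · rw [show a * b * a⁻¹ * b⁻¹ = a * (b * a⁻¹ * b⁻¹) by group]
      exact mul_mem ha (hR'n b (hRP hb) _ (inv_mem ha))
    · exact mul_mem (hRn a (hR'P ha) b hb) (inv_mem hb)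
  have hRnab : ¬ ∀ a ∈ R, ∀ b ∈ R, a * b * a⁻¹ * b⁻¹ ∈ Sc := by
    intro hab
    -- all conjugates commute modulo scalars
    have hall : ∀ h ∈ H, ∀ k ∈ H, ∀ a ∈ R, ∀ b ∈ R,
        h * a * h⁻¹ * (k * b * k⁻¹) * (h * a * h⁻¹)⁻¹ * (k * b * k⁻¹)⁻¹ ∈ Sc := by
      intro h hh k hk a ha b hb
      have key : k⁻¹ * h * a * (k⁻¹ * h)⁻¹ * b * (k⁻¹ * h * a * (k⁻¹ * h)⁻¹)⁻¹ * b⁻¹ ∈ Sc := by
        by_cases he : R.map (MulAut.conj (k⁻¹ * h)).toMonoidHom = R
        · exact hab _ (he ▸ ⟨a, ha, rfl⟩) b hb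
        · exact hother _ (mul_mem (inv_mem hk) hh) he _ ⟨a, ha, rfl⟩ b hb
      have := scalars_normal.conj_mem _ key k
      convert this using 1
      group
    let S : Set (GL (Fin 4) F) := {x | ∃ h ∈ H, ∃ a ∈ R, x = h * a * h⁻¹}
    have hgen : Subgroup.closure S = P := by
      refine hmin _ ((Subgroup.closure_le _).2 ?_) (fun g hg x hx => ?_) fun hle => hRsc fun a ha => hle
        (Subgroup.subset_closure ⟨1, one_mem _, a, ha, by simp⟩)
      · rintro _ ⟨h, hh, a, ha, rfl⟩; exact hPn h hh a (hRP ha)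
      · have : (Subgroup.closure S).map (MulAut.conj g).toMonoidHom ≤ Subgroup.closure S := by
          rw [MonoidHom.map_closure, Subgroup.closure_le]
          rintro _ ⟨_, ⟨h, hh, a, ha, rfl⟩, rfl⟩
          exact Subgroup.subset_closure ⟨g * h, mul_mem hg hh, a, ha, by simp [mul_assoc]⟩
        exact this ⟨x, hx, rfl⟩
    apply hPsc
    intro x hx
    have hq : ∀ u ∈ S, ∀ v ∈ S, Commute (QuotientGroup.mk' Sc u) (QuotientGroup.mk' Sc v) := by
      rintro _ ⟨h, hh, a, ha, rfl⟩ _ ⟨k, hk, b, hb, rfl⟩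
      rw [Commute, SemiconjBy, ← commutatorElement_eq_one_iff_mul_comm, ← map_commutatorElement]
      exact (QuotientGroup.eq_one_iff _).2 (hall h hh k hk a ha b hb)
    rw [← hperf] at hx
    refine (Subgroup.commutator_le.2 fun u hu v hv => ?_ : ⁅P, P⁆ ≤ Sc) hx
    rw [← QuotientGroup.eq_one_iff, ← QuotientGroup.mk'_apply, map_commutatorElement, commutatorElement_eq_one_iff_mul_comm]
    rw [← hgen] at hu hv
    induction hu, hv using Subgroup.closure_induction₂ with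
    | mem u v hu hv => exact hq u hu v hv
    | one_left v _ => simp
    | one_right u _ => simp
    | mul_left u u' v _ _ _ h1 h2 => rw [map_mul]; exact (Commute.mul_left h1 h2).eq
    | mul_right u v v' _ _ _ h1 h2 => rw [map_mul]; exact (Commute.mul_right h1 h2).eq
    | inv_left u v _ _ h1 => rw [map_inv]; exact (Commute.inv_left h1).eq
    | inv_right u v _ _ h1 => rw [map_inv]; exact (Commute.inv_right h1).eq
  set S := ⁅R, R⁆ with hS
  have hSP : S ≤ P := (Subgroup.commutator_mono hRP hRP).trans hperf.le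
  have hSsc : ¬ S ≤ Sc := fun hle => hRnab fun a ha b hb => hle (Subgroup.commutator_mem_commutator ha hb)
  have hSn : ∀ g ∈ P, ∀ x ∈ S, g * x * g⁻¹ ∈ S := by
    intro g hg
    have : S.map (MulAut.conj g).toMonoidHom ≤ S := by
      rw [hS, Subgroup.map_commutator]
      refine Subgroup.commutator_mono ?_ ?_ <;> rintro _ ⟨x, hx, rfl⟩ <;> exact hRn g hg x hx
    exact fun x hx => this ⟨x, hx, rfl⟩
  have hfix : ∀ h ∈ H, R.map (MulAut.conj h).toMonoidHom = R := by
    by_contra hcon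
    push Not at hcon
    obtain ⟨h, hh, hne⟩ := hcon
    -- the other conjugate centralises
    have hcen : ∀ h ∈ H, R.map (MulAut.conj h).toMonoidHom ≠ R → ∀ s ∈ S,
        ∀ a ∈ R.map (MulAut.conj h).toMonoidHom, a * s = s * a :=
      fun h hh hne s hs a ha => commute_of_perfect (fun r hr => hother h hh hne a ha r hr) hs
    let gen : Set (GL (Fin 4) F) := {x | ∃ k ∈ H, ∃ s ∈ S, x = k * s * k⁻¹}
    have hgen : Subgroup.closure gen = P := by
      refine hmin _ ((Subgroup.closure_le _).2 ?_) (fun g hg x hx => ?_) fun hle => hSsc fun s hs => hle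
        (Subgroup.subset_closure ⟨1, one_mem _, s, hs, by simp⟩)
      · rintro _ ⟨k, hk, a, ha, rfl⟩; exact hPn k hk a (hSP ha)
      · have : (Subgroup.closure gen).map (MulAut.conj g).toMonoidHom ≤ Subgroup.closure gen := by
          rw [MonoidHom.map_closure, Subgroup.closure_le]
          rintro _ ⟨_, ⟨k, hk, a, ha, rfl⟩, rfl⟩
          exact Subgroup.subset_closure ⟨g * k, mul_mem hg hk, a, ha, by simp [mul_assoc]⟩
        exact this ⟨x, hx, rfl⟩
    have hSR : S ≤ R := Subgroup.commutator_le.2 fun a ha b hb =>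
      mul_mem (mul_mem (mul_mem ha hb) (inv_mem ha)) (inv_mem hb)
    have hA := inv_adj hSn
    obtain ⟨d, φ, hd, hrange, hφ⟩ := SLTwoPrime.matrix_form (absIrred_of_top htop).1 hA fun z hz hzc => by
      refine scalar_of_commute htop fun x hx => ?_
      rw [← hgen] at hx
      let C : Subgroup (GL (Fin 4) F) :=
        { carrier := {x | z * (x : Matrix (Fin 4) (Fin 4) F) = (x : Matrix (Fin 4) (Fin 4) F) * z}
          one_mem' := by simp
          mul_mem' := fun {a b} ha hb => by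
            simp only [Set.mem_ofPred_eq, Units.val_mul] at *
            rw [← mul_assoc, ha, mul_assoc, hb, mul_assoc]
          inv_mem' := fun {a} ha => by
            simp only [Set.mem_ofPred_eq] at *
            rw [Units.eq_inv_mul_iff_mul_eq, ← mul_assoc, ← ha, Units.mul_inv_cancel_right] }
      refine (Subgroup.closure_le C).2 ?_ hx
      rintro _ ⟨k, hk, s, hs, rfl⟩
      by_cases he : R.map (MulAut.conj k).toMonoidHom = R
      · have he' : S.map (MulAut.conj k).toMonoidHom = S := by rw [hS, Subgroup.map_commutator, he]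
        exact hzc _ (mem_adj (he' ▸ ⟨s, hs, rfl⟩ : k * s * k⁻¹ ∈ S))
      · refine (commute_adj (N := S) (fun t ht => ?_) z hz).symm
        exact congrArg Units.val (hcen k hk he t ht _ ⟨s, hSR hs, rfl⟩)
    obtain ⟨w, e, Q, hdw, hQ⟩ := units_form hd φ
    have hd2 : 2 ≤ d := by
      by_contra hlt
      refine hSsc fun x hx => ?_
      have hx' : (x : Matrix (Fin 4) (Fin 4) F) ∈ φ.range := hrange ▸ mem_adj hx
      obtain ⟨a, ha⟩ := hx'
      have : a = a ⟨0, hd⟩ ⟨0, hd⟩ • 1 := by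
        ext i j; obtain rfl : i = ⟨0, hd⟩ := Fin.ext (by omega); obtain rfl : j = ⟨0, hd⟩ := Fin.ext (by omega); simp
      refine mem_scalars_of_val (c := a ⟨0, hd⟩ ⟨0, hd⟩) ?_
      rw [← ha]; change φ a = _
      conv_lhs => rw [this]
      rw [map_smul, map_one]
    -- the conjugate algebra lies in the commutant
    let Rr : Matrix (Fin d × Fin w) (Fin d × Fin w) F ≃ₐ[F] Matrix (Fin 4) (Fin 4) F :=
      (Matrix.reindexAlgEquiv F F e.symm).trans (cjA Q)
    have hQ' : ∀ a, φ a = Rr (a ⊗ₖ 1) := fun a => by rw [hQ]; rfl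
    have hw : 0 < w := Nat.pos_of_ne_zero fun h => by subst h; rw [mul_zero] at hdw; exact Fintype.card_ne_zero hdw.symm
    have hrS : ∀ a : Matrix (Fin d) (Fin d) F, Rr.symm (cjA h (φ a)) ∈ (kronHom d w).range := by
      intro a
      obtain ⟨B, hB⟩ := kron_commutant hd (Rr.symm (cjA h (φ a))) fun i j => by
        apply Rr.injective
        rw [map_mul, map_mul, AlgEquiv.apply_symm_apply, ← hQ']
        refine commute_adj (N := S) (M := cjA h (φ a)) (fun x hx => ?_) _ (hrange ▸ ⟨Matrix.single i j 1, rfl⟩)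
        have ha : φ a ∈ adj S := hrange ▸ ⟨a, rfl⟩
        have h1 := commute_adj (N := S) (M := ((h⁻¹ * x * h : GL (Fin 4) F) : Matrix (Fin 4) (Fin 4) F)) (fun y hy => by
          have := congrArg (fun u => h⁻¹ * u * h) (hcen h hh hne x hx _ ⟨y, hSR hy, rfl⟩).symm
          simpa [mul_assoc] using congrArg Units.val this) _ ha
        have h2 := congrArg (cjA h) h1
        rw [map_mul, map_mul, show cjA h ((h⁻¹ * x * h : GL (Fin 4) F) : Matrix (Fin 4) (Fin 4) F) = x by simp [mul_assoc]] at h2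
        exact h2.symm
      exact ⟨B, hB.symm⟩
    have hdvd : d ∣ w := dvd_of_kron_range hd (Rr.symm.toAlgHom.comp ((cjA h).toAlgHom.comp φ)) hrS
    have hdw4 : d * w = 4 := by rw [Fintype.card_fin] at hdw; exact hdw
    have hd2' : d = 2 := by
      obtain ⟨r, rfl⟩ := hdvd
      have hdd : d * d ∣ 4 := ⟨r, by rw [← hdw4]; ring⟩
      have := Nat.le_of_dvd (by norm_num) hdd
      nlinarith
    subst hd2'
    set T := S.map (MulAut.conj h).toMonoidHom with hTdef
    have hTR : T ≤ R.map (MulAut.conj h).toMonoidHom := Subgroup.map_mono hSR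
    have hSperf : ⁅S, S⁆ = S := by
      refine le_antisymm (Subgroup.commutator_le.2 fun a ha b hb =>
        mul_mem (mul_mem (mul_mem ha hb) (inv_mem ha)) (inv_mem hb)) ?_
      have hRS : S ⊔ P ⊓ Sc = R := by
        refine Subgroup.eq_of_le_of_card_ge (sup_le hSR hZR) (hRmin _ ⟨sup_le hSP inf_le_left, le_sup_right, ?_, ?_⟩)
        · intro g hg x hx
          have hle : (S ⊔ P ⊓ Sc).map (MulAut.conj g).toMonoidHom ≤ S ⊔ P ⊓ Sc := by
            rw [Subgroup.map_sup]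
            refine sup_le_sup ?_ ?_
            · rintro _ ⟨y, hy, rfl⟩; exact hSn g hg y hy
            · rintro _ ⟨y, hy, rfl⟩; exact Subgroup.mem_inf.2 ⟨mul_mem (mul_mem hg hy.1) (inv_mem hg), scalars_normal.conj_mem _ hy.2 g⟩
          exact hle ⟨x, hx, rfl⟩
        · exact fun hle => hSsc (le_sup_left.trans hle)
      refine Subgroup.commutator_le.2 fun a ha b hb => ?_
      rw [← hRS] at ha hb
      have hnrm : P ⊓ Sc ≤ Subgroup.normalizer (S : Set (GL (Fin 4) F)) := fun z hz =>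
        mem_normalizer_of_conj fun y hy => by rw [commute_scalar hz.2 y, mul_inv_cancel_right]; exact hy
      rw [← SetLike.mem_coe, Subgroup.coe_mul_of_right_le_normalizer_left S (P ⊓ Sc) hnrm] at ha hb
      · obtain ⟨a', ha', za, hza, rfl⟩ := ha
        obtain ⟨b', hb', zb, hzb, rfl⟩ := hb
        have e1 := commute_scalar hza.2
        have e2 := commute_scalar hzb.2
        have e : ⁅a' * za, b' * zb⁆ = ⁅a', b'⁆ := by
          rw [commutatorElement_def, commutatorElement_def, _root_.mul_inv_rev, _root_.mul_inv_rev]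
          calc a' * za * (b' * zb) * (za⁻¹ * a'⁻¹) * (zb⁻¹ * b'⁻¹)
              = a' * (za * (b' * zb)) * za⁻¹ * a'⁻¹ * zb⁻¹ * b'⁻¹ := by group
            _ = a' * ((b' * zb) * za) * za⁻¹ * a'⁻¹ * zb⁻¹ * b'⁻¹ := by rw [e1]
            _ = a' * b' * (zb * a'⁻¹) * zb⁻¹ * b'⁻¹ := by group
            _ = a' * b' * (a'⁻¹ * zb) * zb⁻¹ * b'⁻¹ := by rw [e2]
            _ = a' * b' * a'⁻¹ * b'⁻¹ := by group
        show ⁅a' * za, b' * zb⁆ ∈ ⁅S, S⁆
        rw [e]
        exact Subgroup.commutator_mem_commutator ha' hb'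
    have hperf' : ∀ g : GL (Fin 4) F, ⁅S.map (MulAut.conj g).toMonoidHom, S.map (MulAut.conj g).toMonoidHom⁆ =
        S.map (MulAut.conj g).toMonoidHom := fun g => by rw [← Subgroup.map_commutator, hSperf]
    let ψ : Matrix (Fin 2) (Fin 2) F →ₐ[F] Matrix (Fin 4) (Fin 4) F := (cjA h).toAlgHom.comp φ
    have hmemφ : ∀ x ∈ S, (x : Matrix (Fin 4) (Fin 4) F) ∈ φ.range := fun x hx => hrange ▸ mem_adj hx
    have hTr : ∀ x ∈ T, (x : Matrix (Fin 4) (Fin 4) F) ∈ ψ.range := by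
      rintro _ ⟨y, hy, rfl⟩
      obtain ⟨a, ha⟩ := hmemφ y hy
      exact ⟨a, by show cjA h (φ a) = _; rw [show φ a = _ from ha]; simp⟩
    have hψc : ∀ a b, ψ a * φ b = φ b * ψ a := by
      intro a b
      refine commute_adj (N := S) (M := cjA h (φ a)) (fun x hx => ?_) _ (hrange ▸ ⟨b, rfl⟩)
      have ha : φ a ∈ adj S := hrange ▸ ⟨a, rfl⟩
      have h1 := commute_adj (N := S) (M := ((h⁻¹ * x * h : GL (Fin 4) F) : Matrix (Fin 4) (Fin 4) F)) (fun y hy => by
        have := congrArg (fun u => h⁻¹ * u * h) (hcen h hh hne x hx _ ⟨y, hSR hy, rfl⟩).symm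
        simpa [mul_assoc] using congrArg Units.val this) _ ha
      have h2 := congrArg (cjA h) h1
      rw [map_mul, map_mul, show cjA h ((h⁻¹ * x * h : GL (Fin 4) F) : Matrix (Fin 4) (Fin 4) F) = x by simp [mul_assoc]] at h2
      exact h2.symm
    obtain ⟨G, hG', hfix⟩ := two_factors hSperf (hperf' h) hφ (fun a b hab => hφ ((cjA h).injective hab))
      hmemφ hTr hψc (𝒦 := {U | ∃ k ∈ H, U = S.map (MulAut.conj k).toMonoidHom}) (by
        rintro U ⟨k, hk, rfl⟩
        refine ⟨hperf' k, ?_⟩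
        by_cases he : R.map (MulAut.conj k).toMonoidHom = R
        · exact Or.inl (by rw [hS, Subgroup.map_commutator, he])
        by_cases he' : R.map (MulAut.conj k).toMonoidHom = R.map (MulAut.conj h).toMonoidHom
        · exact Or.inr (Or.inl (by rw [hS, Subgroup.map_commutator, Subgroup.map_commutator, he']))
        refine Or.inr (Or.inr ⟨fun x hx b => ?_, fun x hx b => ?_⟩)
        · refine commute_adj (N := S) (fun s hs => ?_) _ (hrange ▸ ⟨b, rfl⟩)
          exact congrArg Units.val (hcen k hk he s hs x (Subgroup.map_mono hSR hx))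
        · have hb : φ b ∈ adj S := hrange ▸ ⟨b, rfl⟩
          have hne' : R.map (MulAut.conj (h⁻¹ * k)).toMonoidHom ≠ R := by
            intro hc
            apply he'
            have := congrArg (Subgroup.map (MulAut.conj h).toMonoidHom) hc
            rw [Subgroup.map_map] at this
            rw [← this]
            congr 1
            ext y
            simp [mul_assoc]
          have hxk : h⁻¹ * x * h ∈ R.map (MulAut.conj (h⁻¹ * k)).toMonoidHom := by
            obtain ⟨y, hy, rfl⟩ := hx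
            exact ⟨y, hSR hy, by simp [mul_assoc]⟩
          have h1 := commute_adj (N := S) (M := ((h⁻¹ * x * h : GL (Fin 4) F) : Matrix (Fin 4) (Fin 4) F))
            (fun s hs => congrArg Units.val (hcen _ (mul_mem (inv_mem hh) hk) hne' s hs _ hxk)) _ hb
          have h2 := congrArg (cjA h) h1
          rw [map_mul, map_mul, show cjA h ((h⁻¹ * x * h : GL (Fin 4) F) : Matrix (Fin 4) (Fin 4) F) = x by simp [mul_assoc]] at h2
          exact h2)
    refine hF P hPn htop G hG' fun x hx => ?_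
    rw [← hgen] at hx
    induction hx using Subgroup.closure_induction with
    | mem y hy =>
      obtain ⟨k, hk, s, hs, rfl⟩ := hy
      exact hfix _ ⟨k, hk, rfl⟩ _ ⟨s, hs, rfl⟩
    | one => simp
    | mul u v _ _ hu hv =>
      rw [Units.val_mul, transpose_mul, mul_assoc]
      rw [show (u : Matrix (Fin 4) (Fin 4) F)ᵀ * (G * ((u : Matrix (Fin 4) (Fin 4) F) * v)) = G * (v : Matrix (Fin 4) (Fin 4) F) by
        rw [← mul_assoc G, ← mul_assoc, hu]]
      exact hv
    | inv u _ hu =>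
      have h1 := congrArg (fun m => (((u⁻¹ : GL (Fin 4) F)) : Matrix (Fin 4) (Fin 4) F)ᵀ * (m * ((u⁻¹ : GL (Fin 4) F) : Matrix (Fin 4) (Fin 4) F))) hu
      rw [← mul_assoc, ← mul_assoc, ← transpose_mul, Units.mul_inv, transpose_one, one_mul, mul_assoc,
        Units.mul_inv, mul_one] at h1
      exact h1.symm
  have hRP' : R = P := hmin R hRP (fun g hg x hx => (hfix g hg) ▸ ⟨x, hx, rfl⟩) hRsc
  subst hRP'
  refine ⟨R, hPH, hPn, hperf, ?_, ?_, htop, fun h _ hh => hcomm h hh⟩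
  · have hnt : Nontrivial (R ⧸ Sc.subgroupOf R) := by
      refine QuotientGroup.nontrivial_iff.2 fun hc => hRsc ?_
      exact Subgroup.subgroupOf_eq_top.1 hc
    refine IsSimpleGroup.mk fun U hU => ?_
    set V : Subgroup (GL (Fin 4) F) := (U.comap (QuotientGroup.mk' (Sc.subgroupOf R))).map R.subtype with hV
    have hUn : (U.comap (QuotientGroup.mk' (Sc.subgroupOf R))).Normal := hU.comap _
    have hVn : ∀ g ∈ R, ∀ x ∈ V, g * x * g⁻¹ ∈ V := by
      intro g hg x hx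
      obtain ⟨y, hy, rfl⟩ := Subgroup.mem_map.1 hx
      refine Subgroup.mem_map.2 ⟨(⟨g, hg⟩ : R) * y * (⟨g, hg⟩ : R)⁻¹, hUn.conj_mem y hy (⟨g, hg⟩ : R), ?_⟩
      simp only [map_mul, map_inv, Subgroup.coe_subtype]
    by_cases hVs : V ≤ Sc
    · left
      rw [eq_bot_iff]
      intro u hu
      obtain ⟨x, rfl⟩ := QuotientGroup.mk'_surjective _ u
      exact (QuotientGroup.eq_one_iff _).2 (Subgroup.mem_subgroupOf.2 (hVs ⟨x, hu, rfl⟩))
    · right
      have hVR : V = R := Subgroup.eq_of_le_of_card_ge (Subgroup.map_subtype_le _) (hRmin V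
        ⟨Subgroup.map_subtype_le _, fun x hx => ⟨⟨x, hx.1⟩, by
          show QuotientGroup.mk' _ _ ∈ U
          rw [QuotientGroup.mk'_apply, (QuotientGroup.eq_one_iff _).2 (Subgroup.mem_subgroupOf.2 hx.2)]
          exact U.one_mem, rfl⟩, hVn, hVs⟩)
      rw [eq_top_iff]
      intro u _
      obtain ⟨x, rfl⟩ := QuotientGroup.mk'_surjective _ u
      obtain ⟨y, hy, hyx⟩ := (hVR.symm ▸ x.2 : (x : GL (Fin 4) F) ∈ V)
      rwa [show y = x from Subtype.ext hyx] at hy
  · intro hc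
    refine hRnab fun a ha b hb => ?_
    have := hc.is_comm.comm (QuotientGroup.mk' (Sc.subgroupOf R) ⟨a, ha⟩) (QuotientGroup.mk' _ ⟨b, hb⟩)
    rw [← commutatorElement_eq_one_iff_mul_comm, ← map_commutatorElement, QuotientGroup.mk'_apply,
      QuotientGroup.eq_one_iff] at this
    exact Subgroup.mem_subgroupOf.1 this

end Cfsg.Agent.Lib.SLFourMain
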