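import Cfsg.Agent.Lib.SLTwoPrime.Main
import Cfsg.Agent.Lib.SLFourMain.ClassSix
import Cfsg.Agent.Lib.SLFour.SmallFive
import Cfsg.Agent.Lib.SLFour.SmallPlanes

/-! Maximal subgroups of the special linear group in dimension four. -/

set_option autoImplicit false

namespace Cfsg.Agent.Lib.SLFourMain

open Cfsg.Geo Matrix Cfsg.Agent.Lib.SLTwoPrime
open scoped MatrixGroups Kronecker

variable {F : Type*} [Field F] [Fintype F]

/-- an invariant field gives a subfield of degree two -/
lemma field_cases_four {H : Subgroup (GL (Fin 4) F)} {A : Subalgebra F (Matrix (Fin 4) (Fin 4) F)} {r : ℕ}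
    (hA : IsFieldSubalgebra r A) (hinv : Inv H A) :
    r = 1 ∨ ∃ K : Subalgebra F (Matrix (Fin 4) (Fin 4) F), IsFieldSubalgebra 2 K ∧ H ≤ subalgebraNormalizer K := by
  let hfield : IsField A := ⟨exists_pair_ne A, fun x y => Subtype.ext (hA.comm x x.2 y y.2), fun {x} hx => by
    obtain ⟨y, hy, hxy⟩ := hA.inv x x.2 (fun h => hx (Subtype.ext h))
    exact ⟨⟨y, hy⟩, Subtype.ext hxy⟩⟩
  letI : Field A := hfield.toField
  have hdvd : r ∣ 4 := hA.finrank_eq ▸ dvd_of_field_hom A.val
  have hr : r ∈ Nat.divisors 4 := Nat.mem_divisors.2 ⟨hdvd, by norm_num⟩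
  rw [show Nat.divisors 4 = {1, 2, 4} by decide] at hr
  simp only [Finset.mem_insert, Finset.mem_singleton] at hr
  rcases hr with rfl | rfl | rfl
  · exact Or.inl rfl
  · exact Or.inr ⟨A, hA, le_normalizer_of_inv hinv⟩
  · obtain ⟨K, hK, hKi⟩ := exists_quadratic (m := 2) (by norm_num) hA hinv
    exact Or.inr ⟨K, hK, le_normalizer_of_inv hKi⟩

lemma split_form (P : GL (Fin 4) F) (e : Fin 4 ≃ Fin 2 × Fin 2) :
    ∃ Q : (Fin 4 → F) → F, IsNondegenerateQuadraticForm Q ∧ tensorProductSubgroup 2 2 e P ≤ quadSimilarityGroup Q := by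
  let w : (Fin 4 → F) → Fin 2 × Fin 2 → F := fun u k => (((P⁻¹ : GL (Fin 4) F) : Matrix (Fin 4) (Fin 4) F) *ᵥ u) (e.symm k)
  let Q : (Fin 4 → F) → F := fun v => w v (0, 0) * w v (1, 1) - w v (0, 1) * w v (1, 0)
  have hadd : ∀ u v k, w (u + v) k = w u k + w v k := fun u v k => by simp only [w, mulVec_add, Pi.add_apply]
  have hsmul : ∀ (c : F) v k, w (c • v) k = c * w v k := fun c v k => by simp only [w, mulVec_smul, Pi.smul_apply, smul_eq_mul]
  have hpol : ∀ u v, QuadraticMap.polar Q u v =
      w u (0, 0) * w v (1, 1) + w u (1, 1) * w v (0, 0) - w u (0, 1) * w v (1, 0) - w u (1, 0) * w v (0, 1) := by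
    intro u v; simp only [QuadraticMap.polar, Q, hadd]; ring
  have hsurj : ∀ k, ∃ x, ∀ j, w x j = if j = k then 1 else 0 := by
    intro k
    refine ⟨(P : Matrix (Fin 4) (Fin 4) F) *ᵥ Pi.single (e.symm k) 1, fun j => ?_⟩
    show (((P⁻¹ : GL (Fin 4) F) : Matrix (Fin 4) (Fin 4) F) *ᵥ _) (e.symm j) = _
    rw [mulVec_mulVec, Units.inv_mul, one_mulVec, Pi.single_apply]
    simp
  refine ⟨Q, ⟨fun c v => ?_, ⟨?_, ?_, ?_, ?_⟩, fun v hv => ?_⟩, ?_⟩
  · simp only [Q, hsmul]; ring
  · intro x y v; simp only [hpol, hadd]; ring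
  · intro a x v; simp only [hpol, hsmul]; ring
  · intro v x y; simp only [hpol, hadd]; ring
  · intro a v x; simp only [hpol, hsmul]; ring
  · obtain ⟨k, hk⟩ : ∃ k, w v k ≠ 0 := by
      by_contra hcon
      push Not at hcon
      have h0 : ((P⁻¹ : GL (Fin 4) F) : Matrix (Fin 4) (Fin 4) F) *ᵥ v = 0 := funext fun i => by
        simpa [w] using hcon (e i)
      apply hv
      have := congrArg ((P : Matrix (Fin 4) (Fin 4) F) *ᵥ ·) h0
      simpa [mulVec_mulVec] using this
    obtain ⟨x, hx⟩ := hsurj (1 - k.1, 1 - k.2)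
    obtain ⟨a, b⟩ := k
    constructor <;> refine ⟨x, ?_⟩ <;> rw [hpol] <;> fin_cases a <;> fin_cases b <;> simp_all
  · rintro g hg
    obtain ⟨_, ⟨g', ⟨A, B, hg'⟩, rfl⟩, rfl⟩ := hg
    set gg := (MulAut.conj P).toMonoidHom ((glReindex e.symm).toMonoidHom g')
    have hval : (gg : Matrix (Fin 4) (Fin 4) F) = (P : Matrix (Fin 4) (Fin 4) F) *
        Matrix.reindex e.symm e.symm (g' : Matrix (Fin 2 × Fin 2) (Fin 2 × Fin 2) F) *
        ((P⁻¹ : GL (Fin 4) F) : Matrix (Fin 4) (Fin 4) F) := rfl
    have hw : ∀ u k, w ((gg : Matrix (Fin 4) (Fin 4) F) *ᵥ u) k =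
        ∑ l : Fin 2 × Fin 2, (g' : Matrix (Fin 2 × Fin 2) (Fin 2 × Fin 2) F) k l * w u l := by
      intro u k
      simp only [w, hval, mul_assoc, mulVec_mulVec, Units.inv_mul_cancel_left]
      rw [← mulVec_mulVec]
      simp only [Matrix.mulVec, dotProduct, Matrix.reindex_apply, Matrix.submatrix_apply, Equiv.symm_symm,
        Equiv.apply_symm_apply]
      exact (Equiv.sum_comp e.symm _).symm.trans (by simp)
    refine ⟨Matrix.GeneralLinearGroup.det A * Matrix.GeneralLinearGroup.det B, fun u => ?_⟩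
    simp only [Q, hw, hg', Fintype.sum_prod_type, Fin.sum_univ_two, Matrix.kroneckerMap_apply, Units.val_mul,
      Matrix.GeneralLinearGroup.val_det_apply, Matrix.det_fin_two]
    ring

/-- maximal subgroups in dimension four -/
theorem maximal_cases_four (H : Subgroup (GL (Fin 4) F))
    (hH : IsMaximalIn (specialLinear (Fin 4) F) H) :
    (∃ W : Submodule F (Fin 4 → F), W ≠ ⊥ ∧ W ≠ ⊤ ∧ H = subspaceStabilizer W ⊓ specialLinear (Fin 4) F) ∨
    (7 ≤ Fintype.card F ∧ ∃ D : Fin 4 → Submodule F (Fin 4 → F), IsMDecomposition 1 D ∧ H = decompositionStabilizer D ⊓ specialLinear (Fin 4) F) ∨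
    (4 ≤ Fintype.card F ∧ ∃ D : Fin 2 → Submodule F (Fin 4 → F), IsMDecomposition 2 D ∧ H = decompositionStabilizer D ⊓ specialLinear (Fin 4) F) ∨
    (∃ K : Subalgebra F (Matrix (Fin 4) (Fin 4) F), IsFieldSubalgebra 2 K ∧ H = subalgebraNormalizer K ⊓ specialLinear (Fin 4) F) ∨
    (∃ (F₀ : Subfield F) (r : ℕ) (P : GL (Fin 4) F), r.Prime ∧ Fintype.card F = Nat.card F₀ ^ r ∧ H = subfieldSubgroup F₀ P ⊓ specialLinear (Fin 4) F) ∨
    (∃ (p : ℕ) (R : Subgroup (GL (Fin 4) F)), p.Prime ∧ Fintype.card F = p ∧ p % 4 = 1 ∧ IsLinearSymplecticTypeData 2 R ∧ H = subgroupNormalizer R ⊓ specialLinear (Fin 4) F) ∨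
    (Odd (Fintype.card F) ∧ ∃ Q : (Fin 4 → F) → F, IsNondegenerateQuadraticForm Q ∧ H = quadSimilarityGroup Q ⊓ specialLinear (Fin 4) F) ∨
    (∃ f : (Fin 4 → F) → (Fin 4 → F) → F, IsSymplecticForm f ∧ H = similarityGroup f ⊓ specialLinear (Fin 4) F) ∨
    (∃ (σ : F ≃+* F) (f : (Fin 4 → F) → (Fin 4 → F) → F), IsUnitaryForm σ f ∧ H = similarityGroup f ⊓ specialLinear (Fin 4) F) ∨
    InLinearResidualClass H := by
  classical
  haveI : Nonempty (Fin 4) := ⟨0⟩
  have hcard3 : 3 ≤ Fintype.card (Fin 4) := by simp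
  have hq2 : 2 ≤ Fintype.card F := Fintype.one_lt_card
  by_contra hout
  simp only [not_or] at hout
  obtain ⟨oW, oL, oH, oK2, oS, o6, oQ, oF, oU, oR⟩ := hout
  -- reducible case
  have hirr : ActsIrreducibly (matrixSet H) := by
    intro W hW
    by_contra hcon
    push Not at hcon
    refine oW ⟨W, hcon.1, hcon.2, eq_inf hH (fun g hg v => ⟨fun hv => ?_, fun hv => ?_⟩) (not_le_subspaceStabilizer hcon.1 hcon.2)⟩
    · exact hW _ ⟨g, hg, rfl⟩ ⟨v, hv, toLin'_apply _ _⟩
    · have hv' : (g : Matrix (Fin 4) (Fin 4) F) *ᵥ v ∈ W := hv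
      have := hW _ ⟨g⁻¹, inv_mem hg, rfl⟩ ⟨_, hv', toLin'_apply _ _⟩
      simpa [mulVec_mulVec] using this
  have oQ' : ∀ Q : (Fin 4 → F) → F, Odd (Fintype.card F) → IsNondegenerateQuadraticForm Q → ¬ H ≤ quadSimilarityGroup Q := by
    intro Q hoddq hQ hle
    refine oQ ⟨hoddq, Q, hQ, eq_inf hH hle fun h => ?_⟩
    refine not_le_similarityGroup hcard3 (QuadraticMap.polar Q) (RingEquiv.refl F) (fun a => hQ.polar_bilinear.add_right a)
      (fun a x c => hQ.polar_bilinear.smul_right c a x) hQ.nondegenerate (h.trans ?_)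
    rintro g ⟨c, hc⟩
    refine ⟨c, fun u v => ?_⟩
    simp only [QuadraticMap.polar, ← mulVec_add, hc]
    ring
  have oF' : ∀ f : (Fin 4 → F) → (Fin 4 → F) → F, IsSymplecticForm f → ¬ H ≤ similarityGroup f := fun f hf hle =>
    oF ⟨f, hf, eq_inf hH hle (not_le_similarityGroup hcard3 f (RingEquiv.refl F) hf.bilinear.add_right
      (fun a x c => hf.bilinear.smul_right c a x) hf.nondegenerate)⟩
  have oU' : ∀ (σ : F ≃+* F) (f : (Fin 4 → F) → (Fin 4 → F) → F), IsUnitaryForm σ f → ¬ H ≤ similarityGroup f := fun σ f hf hle =>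
    oU ⟨σ, f, hf, eq_inf hH hle (not_le_similarityGroup hcard3 f σ (Sesq.of_unitary hf).add_right
      (fun a x c => (Sesq.of_unitary hf).smul_right c a x) hf.nondegenerate)⟩
  -- decompositions
  have hdec : ∀ (t k : ℕ) (D : Fin t → Submodule F (Fin 4 → F)), IsMDecomposition k D → ¬ H ≤ decompositionStabilizer D := by
    intro t k D hD hle
    have htk : t * k = 4 := by
      obtain ⟨b, -⟩ := decomp_coords hD
      have := Module.finrank_eq_card_basis b
      simp only [Module.finrank_fintype_fun_eq_card, Fintype.card_fin, Fintype.card_prod] at this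
      omega
    have hp := hD.pos
    have ht := hD.two_le
    have hk : k = 1 ∨ k = 2 := by
      have hr : k ∈ Nat.divisors 4 := Nat.mem_divisors.2 ⟨⟨t, by rw [← htk, mul_comm]⟩, by norm_num⟩
      rw [show Nat.divisors 4 = {1, 2, 4} by decide] at hr
      simp only [Finset.mem_insert, Finset.mem_singleton] at hr
      rcases hr with rfl | rfl | rfl <;> omega
    have hnle := not_le_decompositionStabilizer hD hcard3
    have hleSL : H ≤ decompositionStabilizer D ⊓ specialLinear (Fin 4) F := le_inf hle hH.1.le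
    rcases hk with rfl | rfl
    · have e : t = 4 := by omega
      subst e
      by_cases hq : 7 ≤ Fintype.card F
      · exact oL ⟨hq, D, hD, eq_inf hH hle hnle⟩
      · have h6 : Fintype.card F ≠ 6 := fun h => by
          obtain ⟨p, hp⟩ := CharP.exists F
          obtain ⟨m, hpp, hm⟩ := FiniteField.card F p
          rw [h] at hm
          have hd : p ∣ 6 := hm ▸ dvd_pow_self p m.ne_zero
          have h2 := Nat.le_of_dvd (by norm_num) hd
          have h2' := hpp.two_le
          interval_cases p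
          · exact absurd (Nat.prime_three.dvd_of_dvd_pow (hm ▸ (by norm_num) : 3 ∣ 2 ^ (m : ℕ))) (by norm_num)
          · exact absurd (Nat.prime_two.dvd_of_dvd_pow (hm ▸ (by norm_num) : 2 ∣ 3 ^ (m : ℕ))) (by norm_num)
          all_goals first | omega | (revert hpp; norm_num)
        have : Fintype.card F = 2 ∨ Fintype.card F = 3 ∨ Fintype.card F = 4 ∨ Fintype.card F = 5 := by omega
        rcases this with hq | hq | hq | hq
        · exact lines_two hq hD (by norm_num) hle hirr
        · obtain ⟨Q, hQ, hQle⟩ := lines_three hq hD hle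
          exact oQ' Q (by rw [hq]; decide) hQ hQle
        · obtain ⟨s, f, hf, hfle⟩ := lines_four hq hD hle
          exact oU' s f hf hfle
        · obtain ⟨R, hR, hR64, hRle⟩ := SLFour.Five.lines_le_normalizer hq hD
          refine o6 ⟨5, R, by norm_num, hq, by norm_num, hR, eq_inf hH (hleSL.trans hRle)
            (not_le_normalizer (by rw [hR64, hq]; norm_num) fun hsc => ?_)⟩
          let f : R → Fˣ := fun x => ((mem_scalars_iff _).1 (hsc x.2)).choose
          have hf : Function.Injective f := fun x y hxy => Subtype.ext (Units.ext (by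
            rw [((mem_scalars_iff _).1 (hsc x.2)).choose_spec, ((mem_scalars_iff _).1 (hsc y.2)).choose_spec]
            exact congrArg (fun c : Fˣ => (c : F) • (1 : Matrix (Fin 4) (Fin 4) F)) hxy))
          have := Nat.card_le_card_of_injective f hf
          rw [hR64, Nat.card_units, Nat.card_eq_fintype_card, hq] at this
          omega
    · have e : t = 2 := by omega
      subst e
      by_cases hq : 4 ≤ Fintype.card F
      · exact oH ⟨hq, D, hD, eq_inf hH hle hnle⟩
      · obtain ⟨f, hf, hfle⟩ := SLFour.planes_le_symplectic (by omega) hD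
        exact oF' f hf (hleSL.trans hfle)
  -- invariant commutative algebras are scalar
  have hcomm : ∀ A : Subalgebra F (Matrix (Fin 4) (Fin 4) F), Inv H A → (∀ x ∈ A, ∀ y ∈ A, x * y = y * x) →
      ∀ a ∈ A, ∃ c : F, a = c • 1 := by
    intro A hA hAc a ha
    rcases comm_cases hirr hA hAc with hf | ⟨t, k, D, hD, hle⟩
    · rcases field_cases_four hf hA with h1 | ⟨K, hK, hle⟩
      · obtain ⟨v, hv⟩ := finrank_eq_one_iff'.1 h1
        obtain ⟨c₁, hc₁⟩ := hv.2 ⟨a, ha⟩
        obtain ⟨c₂, hc₂⟩ := hv.2 1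
        have hc20 : c₂ ≠ 0 := fun h0 => by
          rw [h0, zero_smul] at hc₂
          exact one_ne_zero (α := Matrix (Fin 4) (Fin 4) F) (congrArg Subtype.val hc₂).symm
        have h1' := congrArg Subtype.val hc₂
        have h2' := congrArg Subtype.val hc₁
        simp only [Subalgebra.coe_smul, Subalgebra.coe_one] at h1' h2'
        exact ⟨c₁ * c₂⁻¹, by rw [← h1', ← h2', smul_smul, inv_mul_cancel_right₀ hc20]⟩
      · exact absurd ⟨K, hK, eq_inf hH hle (not_le_subalgebraNormalizer hK le_rfl hcard3)⟩ oK2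
    · exact absurd hle (hdec t k D hD)
  -- tensor decompositions
  have htens : ∀ (e : Fin 4 ≃ Fin 2 × Fin 2) (P : GL (Fin 4) F), ¬ H ≤ tensorProductSubgroup 2 2 e P := by
    intro e P hle
    obtain ⟨Q, hQ, hQle⟩ := split_form P e
    have hsimQ := hle.trans hQle
    by_cases hq : Odd (Fintype.card F)
    · exact oQ' Q hq hQ hsimQ
    · have h2 : (2 : F) = 0 := by
        have hr : ringChar F = 2 := FiniteField.even_card_iff_char_two.2 (by rw [Nat.odd_iff] at hq; omega)
        have := ringChar.Nat.cast_ringChar (R := F)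
        rw [hr] at this
        exact_mod_cast this
      have hdiag : ∀ v, QuadraticMap.polar Q v v = 2 * Q v := fun v => by
        have h := hQ.smul 2 v
        rw [two_smul] at h
        simp only [QuadraticMap.polar, h]
        ring
      refine oF' (QuadraticMap.polar Q) ⟨hQ.polar_bilinear, fun u v => ?_, fun v => by rw [hdiag, h2, zero_mul], hQ.nondegenerate⟩ ?_
      · rw [QuadraticMap.polar_comm]
        linear_combination (QuadraticMap.polar Q v u) * h2
      · intro g hg
        obtain ⟨c, hc⟩ := hsimQ hg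
        refine ⟨c, fun u v => ?_⟩
        simp only [QuadraticMap.polar, ← mulVec_add, hc]
        ring
  have hG : NoGeo 2 H := ⟨hirr, hcomm, htens⟩
  have hnsc : ¬ H ≤ scalars (Fin 4) F := by
    intro hle
    let i₀ : Fin 4 := ⟨0, by omega⟩
    set v : Fin 4 → F := Pi.single i₀ 1
    have hv : v ≠ 0 := fun h => one_ne_zero (α := F) (by simpa [v] using congrFun h i₀)
    rcases eq_bot_or_top hirr (Submodule.span F {v}) (fun g hg x hx => by
      obtain ⟨c, hc⟩ := (mem_scalars_iff g).1 (hle hg)
      rw [hc, smul_mulVec, one_mulVec]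
      exact Submodule.smul_mem _ _ hx) with h | h
    · exact hv (by simpa using h)
    · have := finrank_span_singleton (K := F) hv
      rw [h, finrank_top, Module.finrank_fintype_fun_eq_card, Fintype.card_fin] at this
      omega
  have hF : NoForm H := by
    intro P hPn htop G hGu hGfix
    let f : (Fin 4 → F) → (Fin 4 → F) → F := fun u v => u ⬝ᵥ (G *ᵥ v)
    have hbil : IsBilinearForm f := ⟨fun x y v => add_dotProduct _ _ _, fun c x v => by simp [f, smul_dotProduct],
      fun v x y => by simp [f, mulVec_add, dotProduct_add], fun c v x => by simp [f, mulVec_smul, dotProduct_smul]⟩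
    have hnd : IsNondegenerateForm f := by
      intro v hv
      refine ⟨?_, ?_⟩
      · have hne : G *ᵥ v ≠ 0 := fun h => hv ((Matrix.mulVec_injective_iff_isUnit.2 hGu) (h.trans (mulVec_zero _).symm))
        obtain ⟨i, hi⟩ := Function.ne_iff.1 hne
        exact ⟨Pi.single i 1, by simpa [f] using hi⟩
      · have hne : v ᵥ* G ≠ 0 := fun h => hv ((Matrix.vecMul_injective_iff_isUnit.2 hGu) (h.trans (zero_vecMul _).symm))
        obtain ⟨i, hi⟩ := Function.ne_iff.1 hne
        exact ⟨Pi.single i 1, by simp only [f, dotProduct_mulVec]; simpa using hi⟩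
    have hfixP : FixesForm (matrixSet P) f := by
      rintro _ ⟨x, hx, rfl⟩ u v
      show ((x : Matrix (Fin 4) (Fin 4) F) *ᵥ u) ⬝ᵥ (G *ᵥ ((x : Matrix (Fin 4) (Fin 4) F) *ᵥ v)) = u ⬝ᵥ _
      rw [dotProduct_comm, dotProduct_mulVec, ← mulVec_transpose, dotProduct_comm, mulVec_mulVec, mulVec_mulVec,
        mul_assoc, hGfix x hx]
    have hses := Sesq.of_bilinear hbil
    have hsim := le_similarityGroup htop hPn hses hnd hfixP
    have hbil' : IsBilinearForm fun u v => f v u :=
      ⟨fun x y v => hbil.add_right v x y, fun c x v => hbil.smul_right c v x, fun v x y => hbil.add_left x y v,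
        fun c v x => hbil.smul_left c x v⟩
    obtain ⟨c, hc⟩ := hses.proportional htop (Sesq.of_bilinear hbil') hnd hfixP fun s hs u v => hfixP s hs v u
    have hcc : c * c = 1 := by
      obtain ⟨v, hv⟩ := exists_ne (0 : Fin 4 → F)
      obtain ⟨x, hx⟩ := (hnd v hv).1
      refine mul_right_cancel₀ hx ?_
      rw [one_mul, mul_assoc, ← hc x v, ← hc v x]
    by_cases hq : Odd (Fintype.card F)
    · have h2 : (2 : F) ≠ 0 := Ring.two_ne_zero fun hr => by
        have := FiniteField.even_card_iff_char_two.1 hr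
        rw [Nat.odd_iff] at hq
        omega
      rcases mul_self_eq_one_iff.1 hcc with hc1 | hc1
      · have hsym : ∀ u v, f v u = f u v := fun u v => by rw [hc u v, hc1, one_mul]
        have hpol : ∀ u v, QuadraticMap.polar (fun w => f w w) u v = 2 * f u v := fun u v => by
          simp only [QuadraticMap.polar, hbil.add_left, hbil.add_right, hsym u v]; ring
        refine oQ' (fun w => f w w) hq ⟨fun a v => by rw [hbil.smul_left, hbil.smul_right]; ring, ⟨?_, ?_, ?_, ?_⟩,
          fun v hv => ?_⟩ fun g hg => ?_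
        · intro x y v; rw [hpol, hpol, hpol, hbil.add_left, mul_add]
        · intro a x v; rw [hpol, hpol, hbil.smul_left]; ring
        · intro v x y; rw [hpol, hpol, hpol, hbil.add_right, mul_add]
        · intro a v x; rw [hpol, hpol, hbil.smul_right]; ring
        · obtain ⟨⟨x, hx⟩, ⟨y, hy⟩⟩ := hnd v hv
          exact ⟨⟨x, by rw [hpol]; exact mul_ne_zero h2 hx⟩, ⟨y, by rw [hpol]; exact mul_ne_zero h2 hy⟩⟩
        · obtain ⟨d, hd⟩ := hsim hg
          exact ⟨d, fun v => hd v v⟩
      · have hskew : ∀ u v, f u v = -f v u := fun u v => by rw [hc u v, hc1, neg_one_mul, neg_neg]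
        refine oF' f ⟨hbil, hskew, fun v => ?_, hnd⟩ hsim
        exact (mul_eq_zero.1 (show (2 : F) * f v v = 0 by linear_combination hskew v v)).resolve_left h2
    · have h2 : (2 : F) = 0 := by
        have hr : ringChar F = 2 := FiniteField.even_card_iff_char_two.2 (by rw [Nat.odd_iff] at hq; omega)
        have := ringChar.Nat.cast_ringChar (R := F)
        rw [hr] at this
        exact_mod_cast this
      have hc1 : c = 1 := by
        rcases mul_self_eq_one_iff.1 hcc with h | h
        · exact h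
        · rw [h]; linear_combination -h2
      have hsym : ∀ u v, f v u = f u v := fun u v => by rw [hc u v, hc1, one_mul]
      let W : Submodule F (Fin 4 → F) :=
        { carrier := {v | f v v = 0}
          add_mem' := fun {u v} hu hv => by
            show f (u + v) (u + v) = 0
            have hu' : f u u = 0 := hu
            have hv' : f v v = 0 := hv
            rw [hbil.add_left, hbil.add_right, hbil.add_right, hu', hv', hsym u v]
            linear_combination (f u v) * h2
          zero_mem' := by simp [f]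
          smul_mem' := fun a v hv => by
            show f (a • v) (a • v) = 0
            have hv' : f v v = 0 := hv
            rw [hbil.smul_left, hbil.smul_right, hv', mul_zero, mul_zero] }
      rcases eq_bot_or_top hirr W (fun g hg x hx => by
        obtain ⟨d, hd⟩ := hsim hg
        show f _ _ = 0
        have hx' : f x x = 0 := hx
        rw [hd, hx', mul_zero]) with hW | hW
      · have hinj : Function.Injective fun v => f v v := by
          intro u v huv
          simp only at huv
          have : u - v ∈ W := by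
            show f (u - v) (u - v) = 0
            rw [sub_eq_add_neg, ← neg_one_smul F v, hbil.add_left, hbil.add_right, hbil.add_right, hbil.smul_left,
              hbil.smul_right, hbil.smul_right, hbil.smul_left, hsym u v, huv]
            linear_combination (f v v - f u v) * h2
          rw [hW, Submodule.mem_bot, sub_eq_zero] at this
          exact this
        have hle := Fintype.card_le_of_injective _ hinj
        rw [Fintype.card_fun, Fintype.card_fin] at hle
        have := Nat.pow_le_pow_right (n := Fintype.card F) (by omega) (show 2 ≤ 4 by norm_num)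
        nlinarith
      · exact oF' f ⟨hbil, fun u v => by rw [hsym v u]; linear_combination (f v u) * h2,
          fun v => (hW.symm ▸ Submodule.mem_top : v ∈ W), hnd⟩ hsim
  rcases exists_core hG hF hnsc with h6 | ⟨P, hPH, hPn, hperf, hsimp, hnab, htop, hcent⟩
  · rcases class_six hG h6 with ⟨⟨p, hp, hqp, hp4⟩, R, hR, hle, hne⟩ | ⟨hq, Q, hQ, hle⟩ | ⟨f, hf, hle⟩ | ⟨s, f, hf, hle⟩ |
      ⟨F₁, r, B, hr, hcard, hF₁, hle⟩
    · exact o6 ⟨p, R, hp, hqp, hp4, hR, eq_inf hH hle hne⟩
    · exact oQ' Q hq hQ hle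
    · exact oF' f hf hle
    · exact oU' s f hf hle
    · exact oS ⟨F₁, r, B, hr, hcard, eq_inf hH hle (not_le_subfieldSubgroup hF₁ B (by omega))⟩
  have hfix : ∀ (σ : F ≃+* F) (f : (Fin 4 → F) → (Fin 4 → F) → F), Sesq σ f → IsNondegenerateForm f →
      FixesForm (matrixSet P) f → H ≤ similarityGroup f := fun σ f hf hnd hfix => le_similarityGroup htop hPn hf hnd hfix
  refine oR ⟨P, ⟨hPH, hPn, hperf, hsimp, hnab, hcent, absIrred_of_top htop, fun F₀ hF₀ hreal => ?_⟩, ?_, ?_, ?_⟩
  · obtain ⟨F₁, r, B, hr, hcard, hF₁, hle⟩ := exists_subfield (by norm_num) htop hPn hF₀ hreal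
    exact oS ⟨F₁, r, B, hr, hcard, eq_inf hH hle (not_le_subfieldSubgroup hF₁ B (by omega))⟩
  · rintro ⟨Q, hQ, hQfix⟩
    have hpfix : FixesForm (matrixSet P) (QuadraticMap.polar Q) := fun s hs u v => by
      simp only [QuadraticMap.polar, ← mulVec_add, hQfix s hs]
    have hsim := hfix _ _ (Sesq.of_bilinear hQ.polar_bilinear) hQ.nondegenerate hpfix
    have hdiag : ∀ v, QuadraticMap.polar Q v v = 2 * Q v := fun v => by
      have h := hQ.smul 2 v
      rw [two_smul] at h
      simp only [QuadraticMap.polar, h]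
      ring
    by_cases hq : Odd (Fintype.card F)
    · refine oQ' Q hq hQ fun g hg => ?_
      obtain ⟨c, hc⟩ := hsim hg
      refine ⟨c, fun v => ?_⟩
      have h1 := hc v v
      rw [hdiag, hdiag] at h1
      have h2 : (2 : F) ≠ 0 := Ring.two_ne_zero fun hr => by
        have := FiniteField.even_card_iff_char_two.1 hr
        rw [Nat.odd_iff] at hq
        omega
      exact mul_left_cancel₀ h2 (by linear_combination h1)
    · have h2 : (2 : F) = 0 := by
        have hr : ringChar F = 2 := FiniteField.even_card_iff_char_two.2 (by rw [Nat.odd_iff] at hq; omega)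
        have := ringChar.Nat.cast_ringChar (R := F)
        rw [hr] at this
        exact_mod_cast this
      refine oF' (QuadraticMap.polar Q) ⟨hQ.polar_bilinear, fun u v => ?_, fun v => by rw [hdiag, h2, zero_mul], hQ.nondegenerate⟩ hsim
      rw [QuadraticMap.polar_comm]
      linear_combination (QuadraticMap.polar Q v u) * h2
  · rintro ⟨f, hf, hffix⟩
    exact oF' f hf (hfix _ _ (Sesq.of_bilinear hf.bilinear) hf.nondegenerate hffix)
  · rintro ⟨σ, f, hf, hffix⟩
    exact oU' σ f hf (hfix _ _ (Sesq.of_unitary hf) hf.nondegenerate hffix)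

end Cfsg.Agent.Lib.SLFourMain
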